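import Mathlib
import Cfsg.Agent.Lib.Char.Basic
import Cfsg.Agent.Lib.Char.Ortho
import Cfsg.Agent.Lib.Char.Linear

/-!
# Multiplicities on a cyclic section of order `6`

`D` normal in `Γ`, `y` of order `6` modulo `D`, `F` a character of `Γ`: the averages `R F (y ^ j)` of `F` over
the cosets `y ^ j D` have natural Fourier coefficients.
-/

set_option autoImplicit false
set_option linter.unusedSectionVars false
set_option linter.style.haveILetI false

namespace Cfsg.Agent.Lib.E8Aut.Mult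

open Cfsg Subgroup
open Cfsg.Agent.Lib.Char.Basic Cfsg.Agent.Lib.Char.Ortho Cfsg.Agent.Lib.Char.Linear
open scoped ComplexConjugate

universe u

variable {Γ : Type u} [Group Γ] [Fintype Γ] (D : Subgroup Γ) [hD : D.Normal] [Fintype D]

/-- The average over a coset. -/
noncomputable def R (F : Γ → ℂ) (c : Γ) : ℂ := (Nat.card D : ℂ)⁻¹ * ∑ e : D, F (c * e)

theorem R_mul_right (F : Γ → ℂ) (c : Γ) {e₀ : Γ} (he : e₀ ∈ D) : R D F (c * e₀) = R D F c := by
  unfold R
  congr 1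
  have : ∀ e : D, F (c * e₀ * e) = F (c * ((⟨e₀, he⟩ * e : D) : Γ)) := fun e => by
    push_cast
    rw [mul_assoc]
  simp_rw [this]
  exact Equiv.sum_comp (Equiv.mulLeft (⟨e₀, he⟩ : D)) (fun e : D => F (c * e))

theorem R_congr (F : Γ → ℂ) {c c' : Γ} (h : (c : Γ ⧸ D) = (c' : Γ ⧸ D)) : R D F c = R D F c' := by
  have h1 : c⁻¹ * c' ∈ D := QuotientGroup.eq.mp h
  rw [← R_mul_right D F c h1]
  congr 1
  group

variable {D}

/-- The parametrization of the preimage of a cyclic subgroup of order `6`. -/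
theorem exists_mult {F : Γ → ℂ} (hF : IsCharacter Γ F) {y : Γ} (hy : orderOf (y : Γ ⧸ D) = 6) {ζ : ℂˣ}
    (hζ : ζ ^ 6 = 1) (k : ℕ) :
    ∃ c : ℕ, (6 : ℂ) * c = ∑ j : Fin 6, R D F (y ^ (j : ℕ)) * conj ((ζ : ℂ) ^ ((j : ℕ) * k)) := by
  classical
  set π : Γ →* Γ ⧸ D := QuotientGroup.mk' D with hπ
  set Z : Subgroup (Γ ⧸ D) := zpowers (y : Γ ⧸ D) with hZ
  set Y : Subgroup Γ := Z.comap π with hYdef
  letI : Fintype Y := Fintype.ofFinite _
  have hπy : π y = (y : Γ ⧸ D) := rfl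
  have hDY : ∀ e ∈ D, e ∈ Y := by
    intro e he
    have : π e = 1 := by
      rw [hπ, QuotientGroup.mk'_apply]
      exact (QuotientGroup.eq_one_iff e).mpr he
    change π e ∈ Z
    rw [this]
    exact Z.one_mem
  have hyY : y ∈ Y := by
    change π y ∈ Z
    exact Subgroup.mem_zpowers _
  -- the homomorphism
  let g₀ : Z := ⟨(y : Γ ⧸ D), Subgroup.mem_zpowers _⟩
  have hg₀ : ∀ x : Z, x ∈ zpowers g₀ := by
    rintro ⟨x, hx⟩
    obtain ⟨m, rfl⟩ := Subgroup.mem_zpowers_iff.mp hx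
    refine Subgroup.mem_zpowers_iff.mpr ⟨m, ?_⟩
    apply Subtype.ext
    simp [g₀]
  have hg₀o : orderOf g₀ = 6 := by
    rw [← hy]
    exact Subgroup.orderOf_mk _ _
  have hdvd : orderOf ζ ∣ orderOf g₀ := by
    rw [hg₀o]
    exact orderOf_dvd_of_pow_eq_one hζ
  let μ₀ : Z →* ℂˣ := monoidHomOfForallMemZpowers hg₀ hdvd
  have hμ₀ : μ₀ g₀ = ζ := monoidHomOfForallMemZpowers_apply_gen hg₀ hdvd
  let μ : Y →* ℂˣ := μ₀.comp (π.subgroupComap Z)
  -- the values
  have hval : ∀ (j : ℕ) (e : D) (hm : y ^ j * (e : Γ) ∈ Y), μ ⟨y ^ j * e, hm⟩ = ζ ^ j := by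
    intro j e hm
    have : π.subgroupComap Z ⟨y ^ j * e, hm⟩ = g₀ ^ j := by
      apply Subtype.ext
      have he1 : π (e : Γ) = 1 := by
        rw [hπ, QuotientGroup.mk'_apply]
        exact (QuotientGroup.eq_one_iff _).mpr e.2
      change π (y ^ j * (e : Γ)) = ((g₀ ^ j : Z) : Γ ⧸ D)
      rw [map_mul, map_pow, he1, mul_one, Subgroup.coe_pow]
      rfl
    change μ₀ (π.subgroupComap Z ⟨y ^ j * e, hm⟩) = _
    rw [this, map_pow, hμ₀]
  -- the bijection
  let φ : Fin 6 × D → Y := fun w => ⟨y ^ (w.1 : ℕ) * w.2, Y.mul_mem (Y.pow_mem hyY _) (hDY _ w.2.2)⟩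
  have hφ : Function.Bijective φ := by
    constructor
    · rintro ⟨j, e⟩ ⟨j', e'⟩ hw
      have h1 : y ^ (j : ℕ) * (e : Γ) = y ^ (j' : ℕ) * (e' : Γ) := congrArg Subtype.val hw
      have h2 := congrArg π h1
      have he1 : ∀ e : D, π (e : Γ) = 1 := fun e => by
        rw [hπ, QuotientGroup.mk'_apply]
        exact (QuotientGroup.eq_one_iff _).mpr e.2
      simp only [map_mul, map_pow, he1, mul_one] at h2
      have h3 : (j : ℕ) = j' := by
        have hinj := pow_injOn_Iio_orderOf (x := (y : Γ ⧸ D))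
        apply hinj
        · rw [Set.mem_Iio, hy]
          exact j.2
        · rw [Set.mem_Iio, hy]
          exact j'.2
        · exact h2
      have h4 : j = j' := Fin.ext h3
      subst h4
      have h5 : (e : Γ) = e' := mul_left_cancel h1
      rw [Subtype.ext h5]
    · rintro ⟨x, hx⟩
      have hx' : π x ∈ Z := hx
      obtain ⟨m, hm⟩ := Subgroup.mem_zpowers_iff.mp hx'
      set j : ℕ := (m % 6).toNat with hj
      have hj0 : 0 ≤ m % 6 := Int.emod_nonneg _ (by norm_num)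
      have hj6 : m % 6 < 6 := Int.emod_lt_of_pos _ (by norm_num)
      have hjlt : j < 6 := by omega
      have h1 : (y : Γ ⧸ D) ^ j = π x := by
        rw [← hm]
        have h2 : ((y : Γ ⧸ D)) ^ m = (y : Γ ⧸ D) ^ (m % 6) := by
          have := zpow_mod_orderOf (y : Γ ⧸ D) m
          rw [hy] at this
          exact this.symm
        rw [h2]
        have h3 : m % 6 = (j : ℤ) := by omega
        rw [h3, zpow_natCast]
      have h2 : (y ^ j)⁻¹ * x ∈ D := by
        apply QuotientGroup.eq.mp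
        have h3 : π (y ^ j) = π x := by
          rw [map_pow, hπy, h1]
        exact h3
      refine ⟨(⟨j, hjlt⟩, ⟨_, h2⟩), ?_⟩
      apply Subtype.ext
      simp [φ]
  have hcardY : Nat.card Y = 6 * Nat.card D := by
    have h1 := Nat.card_congr (Equiv.ofBijective φ hφ)
    rw [Nat.card_prod] at h1
    simpa using h1.symm
  -- the character
  have hres : IsCharacter Y (fun w : Y => F w) := isCharacter_restrict Y hF
  have hlin : IsCharacter Y (fun w : Y => (((μ ^ k) w : ℂˣ) : ℂ)) :=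
    isCharacter_of_isIrrCharacter (isIrrCharacter_of_hom (μ ^ k))
  obtain ⟨n, hn⟩ := exists_nat_classInner hres hlin
  refine ⟨n, ?_⟩
  rw [classInner_def] at hn
  have hsum : ∑ w : Y, F w * conj (((μ ^ k) w : ℂˣ) : ℂ) =
      ∑ j : Fin 6, ∑ e : D, F (y ^ (j : ℕ) * e) * conj ((ζ : ℂ) ^ ((j : ℕ) * k)) := by
    rw [← hφ.sum_comp, Fintype.sum_prod_type]
    refine Finset.sum_congr rfl fun j _ => Finset.sum_congr rfl fun e _ => ?_
    have h1 : (μ ^ k) (φ (j, e)) = ζ ^ ((j : ℕ) * k) := by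
      rw [MonoidHom.pow_apply]
      have := hval (j : ℕ) e (φ (j, e)).2
      change μ (φ (j, e)) = _ at this
      rw [this, pow_mul]
    rw [h1, Units.val_pow_eq_pow_val]
  have hD0 : (Nat.card D : ℂ) ≠ 0 := Nat.cast_ne_zero.mpr Nat.card_pos.ne'
  rw [hsum, hcardY] at hn
  push_cast at hn
  have h2 : ∑ j : Fin 6, R D F (y ^ (j : ℕ)) * conj ((ζ : ℂ) ^ ((j : ℕ) * k)) =
      (Nat.card D : ℂ)⁻¹ * ∑ j : Fin 6, ∑ e : D, F (y ^ (j : ℕ) * e) * conj ((ζ : ℂ) ^ ((j : ℕ) * k)) := by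
    rw [Finset.mul_sum]
    refine Finset.sum_congr rfl fun j _ => ?_
    rw [R, mul_assoc, Finset.sum_mul]
  rw [h2, ← hn]
  field_simp

end Cfsg.Agent.Lib.E8Aut.Mult
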