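import Mathlib
import Cfsg.Agent.Lib.Char.Complete
import Cfsg.Agent.Lib.Core.Basic
import Cfsg.Agent.Lib.E8Aut.Mult

/-!
# Second orthogonality for the averages over `O(C(t))`
-/

set_option autoImplicit false
set_option linter.unusedSectionVars false
set_option linter.style.haveILetI false

namespace Cfsg.Agent.Lib.E8Aut.Avg

open Cfsg Subgroup
open Cfsg.Agent.Lib.Char.Basic Cfsg.Agent.Lib.Char.Ortho Cfsg.Agent.Lib.Char.Complete
open Cfsg.Agent.Lib.E8Aut.Mult
open scoped ComplexConjugate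

universe u

variable {G : Type u} [Group G]

/-- The centralizer of `t`. -/
abbrev Cn (t : G) : Subgroup G := centralizer ({t} : Set G)

/-- The largest normal subgroup of odd order of `C(t)`. -/
abbrev Dc (t : G) : Subgroup (Cn t) := pPrimeCore 2 (Cn t)

theorem mem_Cn {t x : G} : x ∈ Cn t ↔ x * t = t * x := by
  rw [Subgroup.mem_centralizer_singleton_iff]

section Count

variable [Fintype G] [Fintype (IrrCharacter G)]

/-- Second orthogonality, as a count. -/
theorem sum_irr_count (a b : G) :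
    ∑ χ : IrrCharacter G, (χ : G → ℂ) a * conj ((χ : G → ℂ) b) =
      (Nat.card {x : G // x * a * x⁻¹ = b} : ℂ) := by
  classical
  rw [sum_irr_mul_conj]
  split_ifs with h
  · obtain ⟨y, hy⟩ := isConj_iff.mp h
    congr 1
    refine Nat.card_congr ⟨fun z => ⟨z.1 * y, ?_⟩, fun x => ⟨x.1 * y⁻¹, ?_⟩, ?_, ?_⟩
    · have hz := Subgroup.mem_centralizer_singleton_iff.mp z.2
      calc z.1 * y * a * (z.1 * y)⁻¹ = z.1 * (y * a * y⁻¹) * z.1⁻¹ := by group
        _ = z.1 * b * z.1⁻¹ := by rw [hy]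
        _ = b := by rw [hz]; group
    · rw [Subgroup.mem_centralizer_singleton_iff]
      have hx := x.2
      calc x.1 * y⁻¹ * b = x.1 * y⁻¹ * (y * a * y⁻¹) := by rw [hy]
        _ = x.1 * a * y⁻¹ := by group
        _ = (x.1 * a * x.1⁻¹) * (x.1 * y⁻¹) := by group
        _ = b * (x.1 * y⁻¹) := by rw [hx]
    · intro z
      apply Subtype.ext
      simp
    · intro x
      apply Subtype.ext
      simp
  · have : IsEmpty {x : G // x * a * x⁻¹ = b} := ⟨fun x => h (isConj_iff.mpr ⟨x.1, x.2⟩)⟩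
    simp

end Count

section Section

variable {t : G}

/-- The `2`-part of `t u` is `t`. -/
theorem conj_section [Finite G] (ht : t * t = 1) {u v : Cn t} (hu : Odd (orderOf u)) (hv : Odd (orderOf v))
    (x : G) : x * (t * u) * x⁻¹ = t * v → x ∈ Cn t := by
  intro h
  have hut : (u : G) * t = t * u := mem_Cn.mp u.2
  have hvt : (v : G) * t = t * v := mem_Cn.mp v.2
  set n := orderOf u with hn
  have hnodd : Odd n := hu
  have htn : t ^ n = t := by
    obtain ⟨k, hk⟩ := hnodd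
    rw [hk, pow_succ, pow_mul, pow_two, ht, one_pow, one_mul]
  have hun : (u : G) ^ n = 1 := by
    have := pow_orderOf_eq_one u
    exact_mod_cast congrArg Subtype.val this
  have h1 : (t * u) ^ n = t := by
    rw [(show Commute t (u : G) from hut.symm).mul_pow, htn, hun, mul_one]
  have h2 : x * t * x⁻¹ = t * (v : G) ^ n := by
    have h3 : (x * (t * u) * x⁻¹) ^ n = x * (t * u) ^ n * x⁻¹ := conj_pow
    rw [h, h1, (show Commute t (v : G) from hvt.symm).mul_pow, htn] at h3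
    exact h3.symm
  have h4 : ((v : G) ^ n) * ((v : G) ^ n) = 1 := by
    have h5 : (x * t * x⁻¹) * (x * t * x⁻¹) = 1 := by
      calc (x * t * x⁻¹) * (x * t * x⁻¹) = x * (t * t) * x⁻¹ := by group
        _ = 1 := by rw [ht]; group
    rw [h2] at h5
    calc ((v : G) ^ n) * ((v : G) ^ n) = (t * t) * (((v : G) ^ n) * ((v : G) ^ n)) := by rw [ht, one_mul]
      _ = (t * (v : G) ^ n) * (t * (v : G) ^ n) := by
        have hc : Commute t ((v : G) ^ n) := (show Commute t (v : G) from hvt.symm).pow_right n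
        calc (t * t) * (((v : G) ^ n) * ((v : G) ^ n)) = t * (t * (v : G) ^ n) * (v : G) ^ n := by group
          _ = t * ((v : G) ^ n * t) * (v : G) ^ n := by rw [hc.eq]
          _ = _ := by group
      _ = 1 := h5
  have h6 : (v : G) ^ n = 1 := by
    have h7 : orderOf (v : G) ∣ n * 2 := by
      apply orderOf_dvd_of_pow_eq_one
      rw [pow_mul, pow_two]
      exact h4
    have h8 : orderOf (v : G) = orderOf v := Subgroup.orderOf_coe v
    have h9 : Nat.Coprime (orderOf (v : G)) 2 := by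
      rw [h8]
      exact Nat.Coprime.symm (Nat.coprime_two_left.mpr hv)
    exact orderOf_dvd_iff_pow_eq_one.mp (h9.dvd_of_dvd_mul_right h7)
  rw [h6, mul_one] at h2
  rw [mem_Cn]
  rw [mul_inv_eq_iff_eq_mul] at h2
  exact h2

theorem card_section [Finite G] (ht : t * t = 1) {u v : Cn t} (hu : Odd (orderOf u)) (hv : Odd (orderOf v)) :
    Nat.card {x : G // x * (t * u) * x⁻¹ = t * v} = Nat.card {x : Cn t // x * u * x⁻¹ = v} := by
  refine Nat.card_congr ⟨fun x => ⟨⟨x.1, conj_section ht hu hv x.1 x.2⟩, ?_⟩, fun x => ⟨x.1.1, ?_⟩, ?_, ?_⟩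
  · apply Subtype.ext
    have hx := x.2
    have hm : x.1 * t = t * x.1 := mem_Cn.mp (conj_section ht hu hv x.1 x.2)
    have : t * (x.1 * (u : G) * x.1⁻¹) = t * (v : G) := by
      refine Eq.trans ?_ hx
      calc t * (x.1 * (u : G) * x.1⁻¹) = (t * x.1) * (u : G) * x.1⁻¹ := by group
        _ = (x.1 * t) * (u : G) * x.1⁻¹ := by rw [hm]
        _ = _ := by group
    simpa using mul_left_cancel this
  · have hx := x.2
    have hm : (x.1 : G) * t = t * x.1 := mem_Cn.mp x.1.2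
    have h1 : (x.1 : G) * (u : G) * (x.1 : G)⁻¹ = v := by
      have := congrArg Subtype.val hx
      simpa using this
    calc (x.1 : G) * (t * u) * (x.1 : G)⁻¹ = ((x.1 : G) * t) * u * (x.1 : G)⁻¹ := by group
      _ = (t * x.1) * u * (x.1 : G)⁻¹ := by rw [hm]
      _ = t * ((x.1 : G) * (u : G) * (x.1 : G)⁻¹) := by group
      _ = t * v := by rw [h1]
  · intro x
    rfl
  · intro x
    rfl

end Section

section Quot

variable {Γ : Type u} [Group Γ] [Fintype Γ] (D : Subgroup Γ) [hD : D.Normal] [Fintype D]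

/-- A sum over `Γ` of a function of the class modulo `D`. -/
theorem sum_comp_mk (g : Γ ⧸ D → ℂ) [Fintype (Γ ⧸ D)] :
    ∑ x : Γ, g (x : Γ ⧸ D) = (Nat.card D : ℂ) * ∑ q : Γ ⧸ D, g q := by
  classical
  rw [← Finset.sum_fiberwise Finset.univ (fun x : Γ => (x : Γ ⧸ D)), Finset.mul_sum]
  refine Finset.sum_congr rfl fun q _ => ?_
  rw [Finset.sum_congr rfl (g := fun _ => g q) (fun x hx => by rw [(Finset.mem_filter.mp hx).2])]
  rw [Finset.sum_const, nsmul_eq_mul]
  congr 1
  obtain ⟨r, rfl⟩ := QuotientGroup.mk_surjective q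
  have : (Finset.univ.filter (fun x : Γ => (x : Γ ⧸ D) = (r : Γ ⧸ D))).card = Nat.card D := by
    rw [Nat.card_eq_fintype_card, ← Finset.card_univ]
    symm
    refine Finset.card_bij (fun e _ => r * (e : Γ)) ?_ ?_ ?_
    · intro e _
      simp only [Finset.mem_filter, Finset.mem_univ, true_and]
      rw [QuotientGroup.mk_mul, (QuotientGroup.eq_one_iff _).mpr e.2, mul_one]
    · intro e _ e' _ h
      exact Subtype.ext (mul_left_cancel h)
    · intro x hx
      have hx' : (x : Γ ⧸ D) = (r : Γ ⧸ D) := (Finset.mem_filter.mp hx).2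
      have h1 : r⁻¹ * x ∈ D := QuotientGroup.eq.mp hx'.symm
      exact ⟨⟨_, h1⟩, Finset.mem_univ _, by simp⟩
  rw [this]

/-- Summing over the `D`-translates in a conjugacy count. -/
theorem sum_count (u c' : Γ) [Fintype (Γ ⧸ D)] :
    ∑ e' : D, (Nat.card {x : Γ // x * u * x⁻¹ = c' * e'} : ℂ) =
      (Nat.card D : ℂ) * (Nat.card {q : Γ ⧸ D // q * (u : Γ ⧸ D) * q⁻¹ = (c' : Γ ⧸ D)} : ℂ) := by
  classical
  have h1 : ∀ e' : D, (Nat.card {x : Γ // x * u * x⁻¹ = c' * e'} : ℂ) =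
      ∑ x : Γ, if x * u * x⁻¹ = c' * e' then (1 : ℂ) else 0 := by
    intro e'
    rw [Nat.card_eq_fintype_card, Fintype.card_subtype, Finset.sum_boole]
  simp_rw [h1]
  rw [Finset.sum_comm]
  have h2 : ∀ x : Γ, (∑ e' : D, if x * u * x⁻¹ = c' * e' then (1 : ℂ) else 0) =
      if ((x : Γ ⧸ D)) * (u : Γ ⧸ D) * (x : Γ ⧸ D)⁻¹ = (c' : Γ ⧸ D) then 1 else 0 := by
    intro x
    by_cases hx : ((x : Γ ⧸ D)) * (u : Γ ⧸ D) * (x : Γ ⧸ D)⁻¹ = (c' : Γ ⧸ D)
    · rw [if_pos hx]
      have hm : c'⁻¹ * (x * u * x⁻¹) ∈ D := by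
        apply QuotientGroup.eq.mp
        rw [QuotientGroup.mk_mul, QuotientGroup.mk_mul, QuotientGroup.mk_inv, hx]
      rw [Finset.sum_eq_single (⟨_, hm⟩ : D)]
      · rw [if_pos]
        simp
      · intro e' _ hne
        rw [if_neg]
        intro h3
        apply hne
        apply Subtype.ext
        change (e' : Γ) = c'⁻¹ * (x * u * x⁻¹)
        rw [h3]
        simp
      · intro h3
        exact absurd (Finset.mem_univ _) h3
    · rw [if_neg hx]
      refine Finset.sum_eq_zero fun e' _ => ?_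
      rw [if_neg]
      intro h3
      apply hx
      have h4 := congrArg (fun z : Γ => (z : Γ ⧸ D)) h3
      simp only [QuotientGroup.mk_mul, QuotientGroup.mk_inv] at h4
      rw [h4, (QuotientGroup.eq_one_iff _).mpr e'.2, mul_one]
  simp_rw [h2]
  rw [sum_comp_mk D (fun q => if q * (u : Γ ⧸ D) * q⁻¹ = (c' : Γ ⧸ D) then (1 : ℂ) else 0)]
  congr 1
  rw [Nat.card_eq_fintype_card, Fintype.card_subtype, Finset.sum_boole]

end Quot

section Main

instance instDcNormal (t : G) : (Dc t).Normal := Cfsg.pPrimeCore_normal 2 _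

theorem self_mem_Cn (t : G) : t ∈ Cn t := mem_Cn.mpr rfl

/-- `t` as an element of its centralizer. -/
def tt (t : G) : Cn t := ⟨t, self_mem_Cn t⟩

variable [Fintype G] {t : G} [Fintype (Cn t)] [Fintype (Dc t)]

/-- The average of `χ` on the coset `t c O(C(t))`. -/
noncomputable def P (χ : G → ℂ) (c : Cn t) : ℂ := R (Dc t) (fun h : Cn t => χ h) (tt t * c)

theorem P_eq (χ : G → ℂ) (c : Cn t) :
    P χ c = (Nat.card (Dc t) : ℂ)⁻¹ * ∑ e : Dc t, χ (t * ((c * (e : Cn t) : Cn t) : G)) := by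
  rw [P, R]
  congr 1
  refine Finset.sum_congr rfl fun e _ => ?_
  congr 1
  change (t * (c : G)) * ((e : Cn t) : G) = t * ((c : G) * ((e : Cn t) : G))
  rw [mul_assoc]

theorem P_congr (χ : G → ℂ) {c c' : Cn t} (h : (c : Cn t ⧸ Dc t) = (c' : Cn t ⧸ Dc t)) : P χ c = P χ c' := by
  apply R_congr
  rw [QuotientGroup.mk_mul, QuotientGroup.mk_mul, h]

variable [Fintype (IrrCharacter G)] [Fintype (Cn t ⧸ Dc t)]

/-- **Averaged second orthogonality.** -/
theorem sum_P_conj (ht : t * t = 1) (c c' : Cn t) (hc : ∀ e : Dc t, Odd (orderOf (c * (e : Cn t))))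
    (hc' : ∀ e : Dc t, Odd (orderOf (c' * (e : Cn t)))) :
    ∑ χ : IrrCharacter G, P (χ : G → ℂ) c * conj (P (χ : G → ℂ) c') =
      (Nat.card {q : Cn t ⧸ Dc t // q * (c : Cn t ⧸ Dc t) * q⁻¹ = (c' : Cn t ⧸ Dc t)} : ℂ) := by
  have hD0 : (Nat.card (Dc t) : ℂ) ≠ 0 := Nat.cast_ne_zero.mpr Nat.card_pos.ne'
  have h1 : ∀ χ : IrrCharacter G, P (χ : G → ℂ) c * conj (P (χ : G → ℂ) c') =
      ((Nat.card (Dc t) : ℂ)⁻¹ * (Nat.card (Dc t) : ℂ)⁻¹) * ∑ e : Dc t, ∑ e' : Dc t,
        (χ : G → ℂ) (t * ((c * (e : Cn t) : Cn t) : G)) *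
          conj ((χ : G → ℂ) (t * ((c' * (e' : Cn t) : Cn t) : G))) := by
    intro χ
    rw [P_eq, P_eq, map_mul, map_inv₀, map_natCast, map_sum, ← Finset.sum_mul_sum]
    ring
  simp_rw [h1]
  rw [← Finset.mul_sum, Finset.sum_comm]
  have h2 : ∀ e : Dc t, ∑ χ : IrrCharacter G, ∑ e' : Dc t,
      (χ : G → ℂ) (t * ((c * (e : Cn t) : Cn t) : G)) *
        conj ((χ : G → ℂ) (t * ((c' * (e' : Cn t) : Cn t) : G))) =
      (Nat.card (Dc t) : ℂ) *
        (Nat.card {q : Cn t ⧸ Dc t // q * (c : Cn t ⧸ Dc t) * q⁻¹ = (c' : Cn t ⧸ Dc t)} : ℂ) := by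
    intro e
    rw [Finset.sum_comm]
    have h3 : ∀ e' : Dc t, ∑ χ : IrrCharacter G,
        (χ : G → ℂ) (t * ((c * (e : Cn t) : Cn t) : G)) *
          conj ((χ : G → ℂ) (t * ((c' * (e' : Cn t) : Cn t) : G))) =
        (Nat.card {x : Cn t // x * (c * (e : Cn t)) * x⁻¹ = c' * (e' : Cn t)} : ℂ) := by
      intro e'
      rw [sum_irr_count, card_section ht (hc e) (hc' e')]
    simp_rw [h3]
    rw [sum_count (Dc t) (c * (e : Cn t)) c']
    congr 2
    have h4 : ((c * (e : Cn t) : Cn t) : Cn t ⧸ Dc t) = (c : Cn t ⧸ Dc t) := by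
      rw [QuotientGroup.mk_mul, (QuotientGroup.eq_one_iff _).mpr e.2, mul_one]
    rw [h4]
  simp_rw [h2]
  rw [Finset.sum_const, Finset.card_univ, nsmul_eq_mul, ← Nat.card_eq_fintype_card]
  field_simp

/-- The averages are orthogonal to the degrees. -/
theorem sum_P_deg (ht1 : t ≠ 1) (ht : t * t = 1) (c : Cn t) (hc : ∀ e : Dc t, Odd (orderOf (c * (e : Cn t)))) :
    ∑ χ : IrrCharacter G, P (χ : G → ℂ) c * conj ((χ : G → ℂ) 1) = 0 := by
  have h1 : ∀ χ : IrrCharacter G, P (χ : G → ℂ) c * conj ((χ : G → ℂ) 1) =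
      (Nat.card (Dc t) : ℂ)⁻¹ * ∑ e : Dc t, (χ : G → ℂ) (t * ((c * (e : Cn t) : Cn t) : G)) *
        conj ((χ : G → ℂ) 1) := by
    intro χ
    rw [P_eq, mul_assoc, Finset.sum_mul]
  simp_rw [h1]
  rw [← Finset.mul_sum, Finset.sum_comm]
  have h2 : ∀ e : Dc t, ∑ χ : IrrCharacter G, (χ : G → ℂ) (t * ((c * (e : Cn t) : Cn t) : G)) *
      conj ((χ : G → ℂ) 1) = 0 := by
    intro e
    rw [sum_irr_count]
    have hne : t * ((c * (e : Cn t) : Cn t) : G) ≠ 1 := by
      intro h3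
      have h4 : ((c * (e : Cn t) : Cn t) : G) = t := by
        calc ((c * (e : Cn t) : Cn t) : G) = t * t * ((c * (e : Cn t) : Cn t) : G) := by rw [ht, one_mul]
          _ = t * (t * ((c * (e : Cn t) : Cn t) : G)) := by group
          _ = t := by rw [h3, mul_one]
      have h5 : (c * (e : Cn t)) * (c * (e : Cn t)) = 1 := by
        apply Subtype.ext
        rw [Subgroup.coe_mul, h4, ht]
        rfl
      have h6 : orderOf (c * (e : Cn t)) ∣ 2 := by
        apply orderOf_dvd_of_pow_eq_one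
        rw [pow_two, h5]
      have h7 := Nat.Coprime.symm (Nat.coprime_two_left.mpr (hc e))
      have h8 : orderOf (c * (e : Cn t)) = 1 := Nat.Coprime.eq_one_of_dvd h7 h6
      have h9 : c * (e : Cn t) = 1 := orderOf_eq_one_iff.mp h8
      apply ht1
      rw [← h4, h9]
      rfl
    have : IsEmpty {x : G // x * (t * ((c * (e : Cn t) : Cn t) : G)) * x⁻¹ = 1} :=
      ⟨fun x => hne (by
        have := x.2
        rw [mul_inv_eq_one] at this
        exact mul_left_cancel (a := x.1) (by rw [this, mul_one]))⟩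
    rw [Nat.card_of_isEmpty, Nat.cast_zero]
  simp_rw [h2]
  simp

end Main

end Cfsg.Agent.Lib.E8Aut.Avg
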