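import Mathlib
import Cfsg.Agent.Lib.Blk89.PrinBlock
import Cfsg.Agent.Lib.Blocks.General
import Cfsg.Agent.Lib.Core.PSolvable2
import Cfsg.Agent.Lib.E8Aut.Avg

/-!
# Blocks and the averages over `O(C(t))`

A character outside the principal block has vanishing averages over the cosets of `O(C(t))` in the
section of `t`, when `C(t)` is solvable; a character in the principal block is constant on `t O(C(t))`.
-/

set_option autoImplicit false
set_option linter.unusedSectionVars false
set_option linter.style.haveILetI false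

namespace Cfsg.Agent.Lib.E8Aut.Blk

open Cfsg Subgroup MonoidAlgebra
open Cfsg.Agent.Lib.Blocks.Local Cfsg.Agent.Lib.Blocks.Central Cfsg.Agent.Lib.Blocks.General
open Cfsg.Agent.Lib.Blocks.Main Cfsg.Agent.Lib.Blocks.Third Cfsg.Agent.Lib.Blocks.Induced
open Cfsg.Agent.Lib.Blocks.Weak Cfsg.Agent.Lib.Blocks.Brauer
open Cfsg.Agent.Lib.Blk89.PrinBlock
open Cfsg.Agent.Lib.Char.Basic Cfsg.Agent.Lib.Char.Ortho Cfsg.Agent.Lib.Char.Complete
open Cfsg.Agent.Lib.E8Aut.Mult Cfsg.Agent.Lib.E8Aut.Avg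
open scoped ComplexConjugate

universe u

section Coset

variable {Γ : Type u} [Group Γ] [Fintype Γ] (N : Subgroup Γ) [hN : N.Normal] [Fintype N]

/-- The sum of an irreducible character over a coset of a normal subgroup not in its kernel vanishes. -/
theorem sum_coset_eq_zero (ψ : IrrCharacter Γ) {n : Γ} (hn : n ∈ N)
    (hne : (ψ : Γ → ℂ) n ≠ (ψ : Γ → ℂ) 1) (c : Γ) : ∑ e : N, (ψ : Γ → ℂ) (c * e) = 0 := by
  classical
  set z := avgNormal N hN with hz
  have hcard : (Nat.card N : ℂ) ≠ 0 := Nat.cast_ne_zero.mpr Nat.card_pos.ne'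
  have hnz : single n (1 : ℂ) * (z : GA Γ) = z := by
    ext g
    rw [Cfsg.Agent.Lib.Blocks.General.coeff_single_one_mul, hz, coeff_avgNormal, coeff_avgNormal]
    have : n⁻¹ * g ∈ N ↔ g ∈ N := by
      constructor
      · intro h
        have := N.mul_mem hn h
        simpa using this
      · intro h
        exact N.mul_mem (N.inv_mem hn) h
    simp only [this]
  have hzn : (z : GA Γ) * single n (1 : ℂ) = z := by
    rw [← (isCentral_iff_comm (z : GA Γ)).mp (isCentral_of_mem z)]
    exact hnz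
  have h1 := lin_central_mul ψ.2 (isCentral_of_mem z) (single n 1)
  have h2 := lin_central_mul ψ.2 (isCentral_of_mem z) (1 : GA Γ)
  rw [hzn, lin_single, one_mul] at h1
  rw [mul_one, lin_one] at h2
  have hom0 : omega (ψ : Γ → ℂ) (z : GA Γ) = 0 := by
    rw [h2] at h1
    by_contra hc
    exact hne (mul_left_cancel₀ hc h1).symm
  have h3 := lin_central_mul ψ.2 (isCentral_of_mem z) (single c 1)
  rw [hom0, zero_mul, ← (isCentral_iff_comm (z : GA Γ)).mp (isCentral_of_mem z), lin_apply] at h3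
  simp_rw [Cfsg.Agent.Lib.Blocks.General.coeff_single_one_mul, hz, coeff_avgNormal] at h3
  -- reindex
  have h4 : ∑ g : Γ, (if c⁻¹ * g ∈ N then (Nat.card N : ℂ)⁻¹ else 0) * (ψ : Γ → ℂ) g =
      (Nat.card N : ℂ)⁻¹ * ∑ e : N, (ψ : Γ → ℂ) (c * e) := by
    rw [← Equiv.sum_comp (Equiv.mulLeft c)]
    simp only [Equiv.coe_mulLeft, inv_mul_cancel_left]
    rw [sum_eq_sum_subgroup (H := N) _ (fun g hg => by rw [if_neg hg, zero_mul]), Finset.mul_sum]
    refine Finset.sum_congr rfl fun e _ => ?_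
    rw [if_pos e.2]
  rw [h4] at h3
  exact (mul_eq_zero.mp h3).resolve_left (inv_ne_zero hcard)

end Coset

section Main

variable {G : Type u} [Group G] [Fintype G] {M : Ideal AlgInt} {t : G}
  [Fintype (IrrCharacter G)] [Fintype (Cn t)] [Fintype (Dc t)]

set_option maxHeartbeats 1000000 in
/-- **Vanishing of the averages outside the principal block.** -/
theorem P_eq_zero (hM : IsPModular 2 M) (hsolv : Group.IsSolvable (Cn t)) (hto : ∃ k : ℕ, orderOf t = 2 ^ k)
    {χ : IrrCharacter G} (hχ : χ ∉ principalBlock M G) (c : Cn t)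
    (hc : ∀ e : Dc t, ¬ 2 ∣ orderOf (c * (e : Cn t))) : P (χ : G → ℂ) c = 0 := by
  classical
  haveI := isPrime_of_pModular hM
  haveI := Cfsg.Agent.Lib.Char.Ortho.finite_irrCharacter (G := Cn t)
  letI : Fintype (IrrCharacter (Cn t)) := Fintype.ofFinite _
  have hB : IsPBlock M (blockOf M (χ : G → ℂ)) := ⟨χ, rfl⟩
  have hmem : χ ∈ blockOf M (χ : G → ℂ) := mem_blockOf_self χ
  have hb₀ : IsPBlock M (principalBlock M (Cn t)) := ⟨oneI (Cn t), rfl⟩
  have hone : oneI (Cn t) ∈ principalBlock M (Cn t) := by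
    rw [principalBlock_eq_blockOf]
    exact mem_blockOf_self (oneI (Cn t))
  have hnot : ¬ IsInducedBlock M (Cn t) (principalBlock M (Cn t)) (blockOf M (χ : G → ℂ)) := by
    intro hind
    apply hχ
    have h1 := (third_main hM (Cn t) ⟨_, hind⟩).mpr rfl
    intro g
    have h3 := h1.2.2 (oneI (Cn t)) hone (oneI G) (mem_blockOf_self (oneI G)) g
    have h4 := hind.2.2 (oneI (Cn t)) hone χ hmem g
    have h5 := memLocalIdeal_sub h4 h3
    have e : (inducedCentralChar (Cn t) ((oneI (Cn t) : IrrCharacter (Cn t)) : Cn t → ℂ) g - centralChar (χ : G → ℂ) g) -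
        (inducedCentralChar (Cn t) ((oneI (Cn t) : IrrCharacter (Cn t)) : Cn t → ℂ) g -
          centralChar ((oneI G : IrrCharacter G) : G → ℂ) g) =
        centralChar (fun _ : G => (1 : ℂ)) g - centralChar (χ : G → ℂ) g := by
      have : ((oneI G : IrrCharacter G) : G → ℂ) = fun _ : G => (1 : ℂ) := rfl
      rw [this]
      ring
    rwa [e] at h5
  have hsec := fun (y : Cn t) (hy : ¬ 2 ∣ orderOf y) => second_main hM hto hB hmem hb₀ hnot y hy
  have hxc : ∀ c : Cn t, t * (c : G) = (c : G) * t := fun c => (mem_Cn.mp c.2).symm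
  have hcl : IsClassFunction (Cn t) (fun c : Cn t => (χ : G → ℂ) (t * (c : G))) := by
    intro g h
    have hχcl := isClassFunction_of_isIrrCharacter χ.2
    have := hχcl (t * (g : G)) (h : G)
    change (χ : G → ℂ) (t * ((h : G) * g * (h : G)⁻¹)) = (χ : G → ℂ) (t * g)
    rw [← this]
    have h1 := hxc h
    have e : t * ((h : G) * g * (h : G)⁻¹) = (h : G) * (t * g) * (h : G)⁻¹ := by
      calc t * ((h : G) * g * (h : G)⁻¹) = (t * (h : G)) * g * (h : G)⁻¹ := by group
        _ = ((h : G) * t) * g * (h : G)⁻¹ := by rw [h1]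
        _ = _ := by group
    rw [e]
  set θ : Cn t → ℂ := fun c : Cn t => (χ : G → ℂ) (t * (c : G)) with hθ
  have hexp := classFunction_eq_sum hcl
  have hsumθ : ∑ e : Dc t, θ (c * (e : Cn t)) =
      ∑ ψ : IrrCharacter (Cn t), classInner θ ψ * ∑ e : Dc t, (ψ : Cn t → ℂ) (c * (e : Cn t)) := by
    simp_rw [Finset.mul_sum]
    rw [Finset.sum_comm]
    refine Finset.sum_congr rfl fun e _ => ?_
    have := congrFun hexp (c * (e : Cn t))
    simp only [Finset.sum_apply, Pi.smul_apply, smul_eq_mul] at this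
    exact this
  have hsol : IsPSolvable 2 (Cn t) := by
    haveI := hsolv
    exact Cfsg.Agent.Lib.Core.PSolvable2.isPSolvable_of_isSolvable
  have hoff : ∀ ψ : IrrCharacter (Cn t), ψ ∉ principalBlock M (Cn t) →
      ∑ e : Dc t, (ψ : Cn t → ℂ) (c * (e : Cn t)) = 0 := by
    intro ψ hψ
    rw [mem_principal_iff_of_isPSolvable hM hsol] at hψ
    push Not at hψ
    obtain ⟨n, hn, hne⟩ := hψ
    exact sum_coset_eq_zero (Dc t) ψ hn hne c
  have hzero : ∑ e : Dc t, blockPart (principalBlock M (Cn t)) θ (c * (e : Cn t)) = 0 :=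
    Finset.sum_eq_zero fun e _ => hsec _ (hc e)
  simp_rw [blockPart_apply] at hzero
  rw [Finset.sum_comm] at hzero
  have hfin : ∑ e : Dc t, θ (c * (e : Cn t)) = 0 := by
    rw [hsumθ, ← hzero]
    refine Finset.sum_congr rfl fun ψ _ => ?_
    by_cases hψ : ψ ∈ principalBlock M (Cn t)
    · simp only [if_pos hψ]
      rw [Finset.mul_sum]
    · simp only [if_neg hψ, Finset.sum_const_zero]
      rw [hoff ψ hψ, mul_zero]
  rw [P_eq]
  have : ∑ e : Dc t, (χ : G → ℂ) (t * ((c * (e : Cn t) : Cn t) : G)) = ∑ e : Dc t, θ (c * (e : Cn t)) := rfl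
  rw [this, hfin, mul_zero]

/-- In the principal block the average on `t O(C(t))` is the value at `t`. -/
theorem P_one_eq (hM : IsPModular 2 M) (hto : ∃ k : ℕ, orderOf t = 2 ^ k)
    {χ : IrrCharacter G} (hχ : χ ∈ principalBlock M G) : P (χ : G → ℂ) (1 : Cn t) = (χ : G → ℂ) t := by
  classical
  haveI := isPrime_of_pModular hM
  have hD0 : (Nat.card (Dc t) : ℂ) ≠ 0 := Nat.cast_ne_zero.mpr Nat.card_pos.ne'
  rw [P_eq]
  have h1 : ∀ e : Dc t, (χ : G → ℂ) (t * (((1 : Cn t) * (e : Cn t) : Cn t) : G)) = (χ : G → ℂ) t := by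
    intro e
    rw [one_mul]
    exact zstar hM hto e.2 hχ
  simp_rw [h1]
  rw [Finset.sum_const, Finset.card_univ, nsmul_eq_mul, ← Nat.card_eq_fintype_card]
  field_simp

end Main

end Cfsg.Agent.Lib.E8Aut.Blk
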