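import Mathlib
import Cfsg.Agent.Lib.Char.ClassProd
import Cfsg.Agent.Lib.E8Aut.Blk

/-!
# The class-algebra constant that vanishes

A product of two conjugates of `t` is never of the form `t u` with `u ≡ f` modulo `O(C(t))`, when `f` is
not conjugate to its inverse modulo `O(C(t))`.
-/

set_option autoImplicit false
set_option linter.unusedSectionVars false
set_option linter.style.haveILetI false

namespace Cfsg.Agent.Lib.E8Aut.Form

open Cfsg Subgroup
open Cfsg.Agent.Lib.Char.Basic Cfsg.Agent.Lib.Char.Ortho Cfsg.Agent.Lib.Char.Complete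
open Cfsg.Agent.Lib.Char.ClassProd
open Cfsg.Agent.Lib.E8Aut.Mult Cfsg.Agent.Lib.E8Aut.Avg
open scoped ComplexConjugate

universe u

variable {G : Type u} [Group G] {t : G}

/-- No product of two conjugates of `t` lies in the section. -/
theorem no_pair [Finite G] (ht : t * t = 1) {u : Cn t} (hu : Odd (orderOf u))
    (hinv : ∀ x : Cn t ⧸ Dc t, x * (u : Cn t ⧸ Dc t) * x⁻¹ ≠ (u : Cn t ⧸ Dc t)⁻¹) {a b : G}
    (ha : IsConj t a) (hb : IsConj t b) (hab : a * b = t * u) : False := by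
  have ha2 : a * a = 1 := by
    obtain ⟨c, hc⟩ := isConj_iff.mp ha
    rw [← hc]
    calc c * t * c⁻¹ * (c * t * c⁻¹) = c * (t * t) * c⁻¹ := by group
      _ = 1 := by rw [ht]; group
  have hb2 : b * b = 1 := by
    obtain ⟨c, hc⟩ := isConj_iff.mp hb
    rw [← hc]
    calc c * t * c⁻¹ * (c * t * c⁻¹) = c * (t * t) * c⁻¹ := by group
      _ = 1 := by rw [ht]; group
  have hai : a⁻¹ = a := inv_eq_of_mul_eq_one_left ha2
  have hbi : b⁻¹ = b := inv_eq_of_mul_eq_one_left hb2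
  have hti : t⁻¹ = t := inv_eq_of_mul_eq_one_left ht
  have hut : (u : G) * t = t * u := mem_Cn.mp u.2
  have hcom : Commute t (u : G) := hut.symm
  set g : G := t * u with hg
  have hgi : a * g * a⁻¹ = g⁻¹ := by
    rw [← hab, hai]
    calc a * (a * b) * a = (a * a) * (b * a) := by group
      _ = b * a := by rw [ha2, one_mul]
      _ = (a * b)⁻¹ := by rw [mul_inv_rev, hai, hbi]
  set n := orderOf u with hn
  have htn : t ^ n = t := by
    obtain ⟨k, hk⟩ := hu
    rw [hk, pow_succ, pow_mul, pow_two, ht, one_pow, one_mul]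
  have hun : (u : G) ^ n = 1 := by
    have := pow_orderOf_eq_one u
    exact_mod_cast congrArg Subtype.val this
  have hgn : g ^ n = t := by
    rw [hg, hcom.mul_pow, htn, hun, mul_one]
  have hat : a * t * a⁻¹ = t := by
    have h1 : (a * g * a⁻¹) ^ n = a * g ^ n * a⁻¹ := conj_pow
    rw [hgi, hgn, inv_pow, hgn, hti] at h1
    exact h1.symm
  have hamem : a ∈ Cn t := by
    rw [mem_Cn]
    rw [mul_inv_eq_iff_eq_mul] at hat
    exact hat
  have hau : a * (u : G) * a⁻¹ = (u : G)⁻¹ := by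
    have h1 : a * g * a⁻¹ = t * (a * (u : G) * a⁻¹) := by
      calc a * g * a⁻¹ = (a * t * a⁻¹) * (a * (u : G) * a⁻¹) := by rw [hg]; group
        _ = _ := by rw [hat]
    have h2 : g⁻¹ = t * (u : G)⁻¹ := by
      rw [hg, mul_inv_rev, hti]
      exact hcom.inv_right.eq.symm
    rw [hgi, h2] at h1
    exact (mul_left_cancel h1).symm
  apply hinv ((⟨a, hamem⟩ : Cn t) : Cn t ⧸ Dc t)
  rw [← QuotientGroup.mk_inv, ← QuotientGroup.mk_inv, ← QuotientGroup.mk_mul, ← QuotientGroup.mk_mul]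
  congr 1
  apply Subtype.ext
  simpa using hau

variable [Fintype G] [Fintype (IrrCharacter G)] [Fintype (Cn t)] [Fintype (Dc t)]

/-- The vanishing form. -/
theorem form_eq_zero (ht : t * t = 1) {f : Cn t} (hf : ∀ e : Dc t, Odd (orderOf (f * (e : Cn t))))
    (hinv : ∀ x : Cn t ⧸ Dc t, x * (f : Cn t ⧸ Dc t) * x⁻¹ ≠ (f : Cn t ⧸ Dc t)⁻¹) :
    ∑ χ : IrrCharacter G, (χ : G → ℂ) t * (χ : G → ℂ) t * conj (P (χ : G → ℂ) f) / (χ : G → ℂ) 1 = 0 := by
  have hD0 : (Nat.card (Dc t) : ℂ) ≠ 0 := Nat.cast_ne_zero.mpr Nat.card_pos.ne'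
  have hK : (Nat.card {x : G // IsConj t x} : ℂ) ≠ 0 := by
    refine Nat.cast_ne_zero.mpr ?_
    have : Nonempty {x : G // IsConj t x} := ⟨⟨t, IsConj.refl t⟩⟩
    exact Nat.card_pos.ne'
  have hG : (Nat.card G : ℂ) ≠ 0 := Nat.cast_ne_zero.mpr Nat.card_pos.ne'
  have h1 : ∀ e : Dc t, ∑ χ : IrrCharacter G, (χ : G → ℂ) t * (χ : G → ℂ) t *
      conj ((χ : G → ℂ) (t * ((f * (e : Cn t) : Cn t) : G))) / (χ : G → ℂ) 1 = 0 := by
    intro e
    have h2 := card_product_eq (G := G) t t (t * ((f * (e : Cn t) : Cn t) : G))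
    have hemp : IsEmpty {p : G × G // IsConj t p.1 ∧ IsConj t p.2 ∧ p.1 * p.2 = t * ((f * (e : Cn t) : Cn t) : G)} := by
      refine ⟨fun p => ?_⟩
      refine no_pair ht (hf e) ?_ p.2.1 p.2.2.1 p.2.2.2
      have h3 : ((f * (e : Cn t) : Cn t) : Cn t ⧸ Dc t) = (f : Cn t ⧸ Dc t) := by
        rw [QuotientGroup.mk_mul, (QuotientGroup.eq_one_iff _).mpr e.2, mul_one]
      rw [h3]
      exact hinv
    rw [Nat.card_of_isEmpty, Nat.cast_zero] at h2
    have h3 := h2.symm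
    rw [mul_eq_zero] at h3
    rcases h3 with h3 | h3
    · exfalso
      rw [div_eq_zero_iff] at h3
      rcases h3 with h3 | h3
      · exact mul_ne_zero hK hK h3
      · exact hG h3
    · exact h3
  have h2 : ∀ χ : IrrCharacter G, (χ : G → ℂ) t * (χ : G → ℂ) t * conj (P (χ : G → ℂ) f) / (χ : G → ℂ) 1 =
      (Nat.card (Dc t) : ℂ)⁻¹ * ∑ e : Dc t, (χ : G → ℂ) t * (χ : G → ℂ) t *
        conj ((χ : G → ℂ) (t * ((f * (e : Cn t) : Cn t) : G))) / (χ : G → ℂ) 1 := by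
    intro χ
    have h3 : ∑ e : Dc t, (χ : G → ℂ) t * (χ : G → ℂ) t *
        conj ((χ : G → ℂ) (t * ((f * (e : Cn t) : Cn t) : G))) / (χ : G → ℂ) 1 =
        (χ : G → ℂ) t * (χ : G → ℂ) t * (∑ e : Dc t,
          conj ((χ : G → ℂ) (t * ((f * (e : Cn t) : Cn t) : G)))) / (χ : G → ℂ) 1 := by
      rw [Finset.mul_sum, Finset.sum_div]
    rw [h3, P_eq, map_mul, map_inv₀, map_natCast, map_sum]
    ring
  simp_rw [h2]
  rw [← Finset.mul_sum, Finset.sum_comm]
  simp_rw [h1]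
  simp

end Cfsg.Agent.Lib.E8Aut.Form
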