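import Mathlib
import Cfsg.Agent.Lib.E8Aut.Avg

/-!
# Integrality of the coordinates
-/

set_option autoImplicit false
set_option linter.unusedSectionVars false
set_option linter.style.haveILetI false

namespace Cfsg.Agent.Lib.E8Aut.IntVal

open Cfsg Subgroup
open Cfsg.Agent.Lib.Char.Basic Cfsg.Agent.Lib.Char.Ortho Cfsg.Agent.Lib.Char.Complete
open Cfsg.Agent.Lib.E8Aut.Mult Cfsg.Agent.Lib.E8Aut.Avg
open scoped ComplexConjugate

universe u

/-- A primitive cube root of unity. -/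
noncomputable def w : ℂ := ⟨-1 / 2, Real.sqrt 3 / 2⟩

theorem w_sq_add : w ^ 2 + w + 1 = 0 := by
  have h3 : Real.sqrt 3 * Real.sqrt 3 = 3 := Real.mul_self_sqrt (by norm_num)
  apply Complex.ext
  · simp [w, pow_two]
    nlinarith
  · simp [w, pow_two]
    ring

theorem conj_w : conj w = w ^ 2 := by
  have h3 : Real.sqrt 3 * Real.sqrt 3 = 3 := Real.mul_self_sqrt (by norm_num)
  apply Complex.ext
  · simp [w, pow_two]
    nlinarith
  · simp [w, pow_two]
    ring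

theorem w_cube : w ^ 3 = 1 := by
  linear_combination (w - 1) * w_sq_add

theorem w_ne : w ≠ 1 := by
  intro h
  have := w_sq_add
  rw [h] at this
  norm_num at this

theorem w_im : w.im ≠ 0 := by
  have h3 : 0 < Real.sqrt 3 := Real.sqrt_pos.mpr (by norm_num)
  simp [w]

/-- `p + q w = 0` for rationals only when `p = q = 0`. -/
theorem rat_zero {p q : ℚ} (h : (p : ℂ) + q * w = 0) : p = 0 ∧ q = 0 := by
  have h1 := congrArg Complex.im h
  have h3 : 0 < Real.sqrt 3 := Real.sqrt_pos.mpr (by norm_num)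
  have hq : q = 0 := by
    by_contra hq
    have hq' : (q : ℝ) ≠ 0 := by exact_mod_cast hq
    simp [w, hq', h3.ne'] at h1
  subst hq
  simp at h
  exact ⟨by exact_mod_cast h, rfl⟩

/-- `p + q w = 0` for integers only when `p = q = 0`. -/
theorem int_zero {p q : ℤ} (h : (p : ℂ) + q * w = 0) : p = 0 ∧ q = 0 := by
  have := @rat_zero p q (by simpa using h)
  exact ⟨by exact_mod_cast this.1, by exact_mod_cast this.2⟩

variable {G : Type u} [Group G] [Fintype G] {t : G} [Fintype (Cn t)] [Fintype (Dc t)]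

theorem tt_comm (x : Cn t) : x * tt t = tt t * x := by
  apply Subtype.ext
  exact mem_Cn.mp x.2

theorem tt_sq (ht : t * t = 1) : tt t * tt t = 1 := by
  apply Subtype.ext
  exact ht

/-- The coordinates: integrality. -/
theorem exists_int (ht : t * t = 1) (χ : IrrCharacter G) {f : Cn t}
    (hf3 : (f : Cn t ⧸ Dc t) ^ 3 = 1) (ho : orderOf ((tt t * f : Cn t) : Cn t ⧸ Dc t) = 6) :
    ∃ d₀ d₁ d₂ : ℤ, P (χ : G → ℂ) (1 : Cn t) = d₀ + d₁ + d₂ ∧ P (χ : G → ℂ) f = d₀ + w * d₁ + w ^ 2 * d₂ ∧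
      P (χ : G → ℂ) f⁻¹ = d₀ + w ^ 2 * d₁ + w * d₂ := by
  classical
  set F : Cn t → ℂ := fun h => (χ : G → ℂ) h with hF
  have hFc : IsCharacter (Cn t) F := isCharacter_restrict (Cn t) (isCharacter_of_isIrrCharacter χ.2)
  set y : Cn t := tt t * f with hy
  -- the root of unity
  have hz0 : (1 + w) ≠ 0 := by
    intro h
    have h2 := w_sq_add
    have h3 : w = -1 := by linear_combination h
    rw [h3] at h2
    norm_num at h2
  let ζ : ℂˣ := Units.mk0 (1 + w) hz0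
  have hζval : (ζ : ℂ) = 1 + w := rfl
  have hw3 := w_cube
  have hwsq := w_sq_add
  have hζ6 : ζ ^ 6 = 1 := by
    apply Units.ext
    rw [Units.val_pow_eq_pow_val, hζval, Units.val_one]
    have h1 : 1 + w = -w ^ 2 := by linear_combination hwsq
    rw [h1]
    have : (-w ^ 2) ^ 6 = (w ^ 3) ^ 4 := by ring
    rw [this, hw3, one_pow]
  set v : ℂ := -w with hv
  have hconj : ∀ m : ℕ, conj ((ζ : ℂ) ^ m) = v ^ m := by
    intro m
    rw [map_pow, hζval, map_add, map_one, conj_w, hv]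
    congr 1
    linear_combination hwsq
  have hv6 : v ^ 6 = 1 := by
    have : v ^ 6 = (w ^ 3) ^ 2 := by rw [hv]; ring
    rw [this, hw3, one_pow]
  have hvm : ∀ m : ℕ, v ^ m = v ^ (m % 6) := fun m => pow_eq_pow_mod m hv6
  have v1 : v ^ 1 = -w := by rw [pow_one]
  have v2 : v ^ 2 = w ^ 2 := by rw [hv]; ring
  have v3 : v ^ 3 = -1 := by rw [hv]; linear_combination -hw3
  have v4 : v ^ 4 = w := by rw [hv]; linear_combination w * hw3
  have v5 : v ^ 5 = -w ^ 2 := by rw [hv]; linear_combination -w ^ 2 * hw3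
  have key : ∀ k : ℕ, ∃ c : ℕ, (6 : ℂ) * c = R (Dc t) F (y ^ 0) * v ^ (0 * k) + R (Dc t) F (y ^ 1) * v ^ (1 * k) +
      R (Dc t) F (y ^ 2) * v ^ (2 * k) + R (Dc t) F (y ^ 3) * v ^ (3 * k) + R (Dc t) F (y ^ 4) * v ^ (4 * k) +
      R (Dc t) F (y ^ 5) * v ^ (5 * k) := by
    intro k
    obtain ⟨c, hc⟩ := exists_mult hFc ho hζ6 k
    refine ⟨c, ?_⟩
    rw [hc, Fin.sum_univ_six]
    simp only [hconj]
    rfl
  obtain ⟨c0, h0⟩ := key 0
  obtain ⟨c1, h1⟩ := key 1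
  obtain ⟨c2, h2⟩ := key 2
  obtain ⟨c3, h3⟩ := key 3
  obtain ⟨c4, h4⟩ := key 4
  obtain ⟨c5, h5⟩ := key 5
  have v6 : v ^ 6 = 1 := hv6
  have v8 : v ^ 8 = w ^ 2 := by rw [hvm 8]; exact v2
  have v10 : v ^ 10 = w := by rw [hvm 10]; exact v4
  have v12 : v ^ 12 = 1 := by rw [hvm 12]; simp
  have v15 : v ^ 15 = -1 := by rw [hvm 15]; exact v3
  have v16 : v ^ 16 = w := by rw [hvm 16]; exact v4
  have v20 : v ^ 20 = w ^ 2 := by rw [hvm 20]; exact v2
  have v25 : v ^ 25 = -w := by rw [hvm 25]; exact v1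
  set R0 := R (Dc t) F (y ^ 0)
  set R1 := R (Dc t) F (y ^ 1) with hR1
  set R2 := R (Dc t) F (y ^ 2)
  set R3 := R (Dc t) F (y ^ 3) with hR3
  set R4 := R (Dc t) F (y ^ 4)
  set R5 := R (Dc t) F (y ^ 5) with hR5
  norm_num only [] at h0 h1 h2 h3 h4 h5
  rw [v1, v2, v3, v4, v5] at h1
  rw [v2, v4, v6, v8, v10] at h2
  have v9 : v ^ 9 = -1 := by rw [hvm 9]; exact v3
  rw [v3, v6, v15, v9, v12] at h3
  rw [v4, v8, v12, v16, v20] at h4
  rw [v5, v10, v15, v20, v25] at h5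
  simp only [pow_zero, mul_one] at h0 h1 h2 h3 h4 h5
  have hcomm : Commute (tt t) f := (tt_comm f).symm
  have hy3 : (y ^ 3 : Cn t) = tt t * f ^ 3 := by
    rw [hy, hcomm.mul_pow]
    congr 1
    rw [pow_succ, pow_two, tt_sq ht, one_mul]
  have hy5 : (y ^ 5 : Cn t) = tt t * f ^ 5 := by
    rw [hy, hcomm.mul_pow]
    congr 1
    have e2 : tt t ^ 2 = 1 := by rw [pow_two, tt_sq ht]
    rw [show (5 : ℕ) = 2 * 2 + 1 from rfl, pow_succ, pow_mul, e2, one_pow, one_mul]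
  have hP1 : P (χ : G → ℂ) f = R1 := by
    rw [hR1, pow_one]
    rfl
  have hP3 : P (χ : G → ℂ) (1 : Cn t) = R3 := by
    rw [hR3]
    apply R_congr
    rw [hy3, QuotientGroup.mk_mul, QuotientGroup.mk_mul, QuotientGroup.mk_pow, hf3]
    rfl
  have hP5 : P (χ : G → ℂ) f⁻¹ = R5 := by
    rw [hR5]
    apply R_congr
    rw [hy5, QuotientGroup.mk_mul, QuotientGroup.mk_mul, QuotientGroup.mk_pow, QuotientGroup.mk_inv]
    congr 1
    have h1 : (f : Cn t ⧸ Dc t) ^ 5 = (f : Cn t ⧸ Dc t) ^ 3 * (f : Cn t ⧸ Dc t) ^ 2 := by group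
    rw [h1, hf3, one_mul, inv_eq_iff_mul_eq_one, ← pow_succ']
    exact hf3
  refine ⟨(c0 : ℤ) - c3, (c2 : ℤ) - c5, (c4 : ℤ) - c1, ?_, ?_, ?_⟩
  · rw [hP3]
    push_cast
    grind
  · rw [hP1]
    push_cast
    grind
  · rw [hP5]
    push_cast
    grind

end Cfsg.Agent.Lib.E8Aut.IntVal
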