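import Mathlib

/-!
# A lattice lemma

Integer vectors `v i = (d₀ i, d₁ i, d₂ i)` on a finite set, with Gram matrix
`2 * [[2,1,1],[1,2,1],[1,1,2]]`, with an involution swapping the last two coordinates, together with
positive degrees `n i` orthogonal to the coordinates and the real form of a class-algebra constant:
some `i` with `v i ≠ (1,0,0)` has `n i = 1`.
-/

set_option autoImplicit false
set_option linter.unusedSectionVars false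

namespace Cfsg.Agent.Lib.E8Aut.Lattice

/-- The line of a vector with coordinates in `{-1, 0, 1}`. -/
def line (x y z : ℤ) : Fin 15 :=
  if x = 0 ∧ y = 0 ∧ z = 0 then 0
  else if y = 0 ∧ z = 0 then 1
  else if x = 0 ∧ z = 0 then 2
  else if x = 0 ∧ y = 0 then 3
  else if z = 0 ∧ x = y then 4
  else if z = 0 then 5
  else if y = 0 ∧ x = z then 6
  else if y = 0 then 7
  else if x = 0 ∧ y = z then 8
  else if x = 0 ∧ y = 1 then 9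
  else if x = 0 then 10
  else if x = y ∧ y = z then 11
  else if x = y then 12
  else if x = z then 13
  else 14

/-- The effect of swapping the last two coordinates. -/
def sw : Fin 15 → Fin 15 := ![0, 1, 3, 2, 6, 7, 4, 5, 8, 10, 9, 11, 13, 12, 14]

def q00 : Fin 15 → ℤ := ![0, 1, 0, 0, 1, 1, 1, 1, 0, 0, 0, 1, 1, 1, 1]
def q11 : Fin 15 → ℤ := ![0, 0, 1, 0, 1, 1, 0, 0, 1, 1, 1, 1, 1, 1, 1]
def q22 : Fin 15 → ℤ := ![0, 0, 0, 1, 0, 0, 1, 1, 1, 1, 1, 1, 1, 1, 1]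
def q01 : Fin 15 → ℤ := ![0, 0, 0, 0, 1, -1, 0, 0, 0, 0, 0, 1, 1, -1, -1]
def q02 : Fin 15 → ℤ := ![0, 0, 0, 0, 0, 0, 1, -1, 0, 0, 0, 1, -1, 1, -1]
def q12 : Fin 15 → ℤ := ![0, 0, 0, 0, 0, 0, 0, 0, 1, -1, -1, 1, -1, -1, 1]

/-- An integer of absolute value at most one. -/
def Unit' (x : ℤ) : Prop := x = -1 ∨ x = 0 ∨ x = 1

theorem forall_triple (P : ℤ → ℤ → ℤ → Prop) (hP : ∀ a ∈ [(-1 : ℤ), 0, 1], ∀ b ∈ [(-1 : ℤ), 0, 1],
    ∀ c ∈ [(-1 : ℤ), 0, 1], P a b c) {x y z : ℤ} (hx : Unit' x) (hy : Unit' y) (hz : Unit' z) :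
    P x y z := by
  refine hP x ?_ y ?_ z ?_
  · rcases hx with rfl | rfl | rfl <;> simp
  · rcases hy with rfl | rfl | rfl <;> simp
  · rcases hz with rfl | rfl | rfl <;> simp

theorem eq00 {x y z : ℤ} (hx : Unit' x) (hy : Unit' y) (hz : Unit' z) :
    x * x = q00 (line x y z) :=
  forall_triple (fun x y z => x * x = q00 (line x y z)) (by decide) hx hy hz

theorem eq11 {x y z : ℤ} (hx : Unit' x) (hy : Unit' y) (hz : Unit' z) :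
    y * y = q11 (line x y z) :=
  forall_triple (fun x y z => y * y = q11 (line x y z)) (by decide) hx hy hz

theorem eq22 {x y z : ℤ} (hx : Unit' x) (hy : Unit' y) (hz : Unit' z) :
    z * z = q22 (line x y z) :=
  forall_triple (fun x y z => z * z = q22 (line x y z)) (by decide) hx hy hz

theorem eq01 {x y z : ℤ} (hx : Unit' x) (hy : Unit' y) (hz : Unit' z) :
    x * y = q01 (line x y z) :=
  forall_triple (fun x y z => x * y = q01 (line x y z)) (by decide) hx hy hz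

theorem eq02 {x y z : ℤ} (hx : Unit' x) (hy : Unit' y) (hz : Unit' z) :
    x * z = q02 (line x y z) :=
  forall_triple (fun x y z => x * z = q02 (line x y z)) (by decide) hx hy hz

theorem eq12 {x y z : ℤ} (hx : Unit' x) (hy : Unit' y) (hz : Unit' z) :
    y * z = q12 (line x y z) :=
  forall_triple (fun x y z => y * z = q12 (line x y z)) (by decide) hx hy hz

theorem line_swap {x y z : ℤ} (hx : Unit' x) (hy : Unit' y) (hz : Unit' z) :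
    line x z y = sw (line x y z) :=
  forall_triple (fun x y z => line x z y = sw (line x y z)) (by decide) hx hy hz

/-- The arithmetic of the classification. -/
theorem classify (a b c ab abn ac acn bc bcn abc abcn abnc anbc : ℕ)
    (h00 : a + ab + abn + ac + acn + abc + abcn + abnc + anbc = 4)
    (h11 : b + ab + abn + bc + bcn + abc + abcn + abnc + anbc = 4)
    (h22 : c + ac + acn + bc + bcn + abc + abcn + abnc + anbc = 4)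
    (h01 : (ab : ℤ) - abn + abc + abcn - abnc - anbc = 2)
    (h02 : (ac : ℤ) - acn + abc - abcn + abnc - anbc = 2)
    (h12 : (bc : ℤ) - bcn + abc - abcn - abnc + anbc = 2)
    (s1 : b = c) (s2 : ab = ac) (s3 : abn = acn) (s4 : abcn = abnc) (s5 : 2 ∣ bcn)
    (ho : 1 ≤ a) :
    abn = 0 ∧ acn = 0 ∧ bcn = 0 ∧ abcn = 0 ∧ abnc = 0 ∧ anbc = 0 ∧
    ((a = 2 ∧ b = 2 ∧ c = 2 ∧ abc = 2 ∧ ab = 0 ∧ ac = 0 ∧ bc = 0) ∨
     (a = 1 ∧ b = 1 ∧ c = 1 ∧ abc = 1 ∧ ab = 1 ∧ ac = 1 ∧ bc = 1)) := by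
  subst s1 s2 s3 s4
  have h1 : ab ≤ 1 := by omega
  have h2 : abn ≤ 1 := by omega
  have h3 : abcn ≤ 1 := by omega
  have h4 : abc ≤ 3 := by omega
  have h5 : anbc ≤ 3 := by omega
  interval_cases ab <;> interval_cases abn <;> interval_cases abcn <;> interval_cases abc <;>
    interval_cases anbc <;> omega

variable {ι : Type*} [Fintype ι] [DecidableEq ι]

/-- A single large value of a function with sum of squares `4` forces the others to vanish. -/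
theorem eq_zero_of_sq (f : ι → ℤ) (h : ∑ i, f i * f i = 4) {i j : ι} (hij : j ≠ i) (hi : 4 ≤ f i * f i) :
    f j = 0 := by
  have h1 : f i * f i + f j * f j ≤ ∑ k, f k * f k := by
    have h2 : ∑ k ∈ ({i, j} : Finset ι), f k * f k ≤ ∑ k, f k * f k :=
      Finset.sum_le_sum_of_subset_of_nonneg (Finset.subset_univ _) (fun k _ _ => mul_self_nonneg _)
    rwa [Finset.sum_pair hij.symm] at h2
  rw [h] at h1
  nlinarith [mul_self_nonneg (f j)]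

theorem sq_le_of_sum (f : ι → ℤ) (h : ∑ i, f i * f i = 4) (i : ι) : f i * f i ≤ 4 := by
  rw [← h]
  exact Finset.single_le_sum (f := fun k => f k * f k) (fun k _ => mul_self_nonneg _) (Finset.mem_univ i)

theorem unit_of_sq {x : ℤ} (h : x * x < 4) : Unit' x := by
  have h1 : -1 ≤ x := by nlinarith
  have h2 : x ≤ 1 := by nlinarith
  unfold Unit'
  omega

/-- The entries are units. -/
theorem unit_d₀ (d₀ : ι → ℤ) (o : ι) (h : ∑ i, d₀ i * d₀ i = 4) (ho : d₀ o = 1) (i : ι) :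
    Unit' (d₀ i) := by
  by_cases hi : i = o
  · rw [hi, ho]; right; right; rfl
  · apply unit_of_sq
    have h2 : ∑ k ∈ ({o, i} : Finset ι), d₀ k * d₀ k ≤ ∑ k, d₀ k * d₀ k :=
      Finset.sum_le_sum_of_subset_of_nonneg (Finset.subset_univ _) (fun k _ _ => mul_self_nonneg _)
    rw [Finset.sum_pair (Ne.symm hi), h, ho] at h2
    omega

theorem unit_d₁ (τ : ι → ι) (hτ : ∀ i, τ (τ i) = i) (d₁ d₂ : ι → ℤ)
    (h11 : ∑ i, d₁ i * d₁ i = 4) (h12 : ∑ i, d₁ i * d₂ i = 2)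
    (h1 : ∀ i, d₁ (τ i) = d₂ i) (h2 : ∀ i, d₂ (τ i) = d₁ i) (i : ι) :
    Unit' (d₁ i) := by
  apply unit_of_sq
  by_contra hlt
  have hge : 4 ≤ d₁ i * d₁ i := not_lt.mp hlt
  have h22 : ∑ i, d₂ i * d₂ i = 4 := by
    rw [← h11, ← Equiv.sum_comp (Function.Involutive.toPerm τ hτ) (fun k => d₁ k * d₁ k)]
    refine Finset.sum_congr rfl fun k _ => ?_
    change d₂ k * d₂ k = d₁ (τ k) * d₁ (τ k)
    rw [h1]
  have hz1 : ∀ j, j ≠ i → d₁ j = 0 := fun j hj => eq_zero_of_sq d₁ h11 hj hge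
  have hge2 : 4 ≤ d₂ (τ i) * d₂ (τ i) := by rwa [h2]
  have hz2 : ∀ j, j ≠ τ i → d₂ j = 0 := fun j hj => eq_zero_of_sq d₂ h22 hj hge2
  have hs : ∑ j, d₁ j * d₂ j = d₁ i * d₂ i :=
    Finset.sum_eq_single i (fun j _ hj => by rw [hz1 j hj, zero_mul]) (fun h => absurd (Finset.mem_univ i) h)
  rw [h12] at hs
  by_cases hfix : τ i = i
  · have : d₂ i = d₁ i := by
      have := h2 i
      rwa [hfix] at this
    rw [this] at hs
    have hle := sq_le_of_sum d₁ h11 i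
    omega
  · have : d₂ i = 0 := hz2 i (Ne.symm hfix)
    rw [this, mul_zero] at hs
    omega


/-- The data of the lattice lemma. -/
structure Data (τ : ι → ι) (o : ι) (d₀ d₁ d₂ n : ι → ℤ) : Prop where
  hτ : ∀ i, τ (τ i) = i
  pos : ∀ i, 0 < n i
  h00 : ∑ i, d₀ i * d₀ i = 4
  h11 : ∑ i, d₁ i * d₁ i = 4
  h22 : ∑ i, d₂ i * d₂ i = 4
  h01 : ∑ i, d₀ i * d₁ i = 2
  h02 : ∑ i, d₀ i * d₂ i = 2
  h12 : ∑ i, d₁ i * d₂ i = 2
  o0 : d₀ o = 1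
  o1 : d₁ o = 0
  o2 : d₂ o = 0
  no : n o = 1
  τ0 : ∀ i, d₀ (τ i) = d₀ i
  τ1 : ∀ i, d₁ (τ i) = d₂ i
  τ2 : ∀ i, d₂ (τ i) = d₁ i
  τn : ∀ i, n (τ i) = n i
  deg0 : ∑ i, d₀ i * n i = 0
  deg1 : ∑ i, d₁ i * n i = 0
  form : ∑ i, ((d₀ i + d₁ i + d₂ i) ^ 2 * (2 * d₀ i - d₁ i - d₂ i) : ℚ) / (n i : ℚ) = 0
  cong : ∀ i, (d₀ i ≠ 0 ∨ d₁ i ≠ 0 ∨ d₂ i ≠ 0) → ∃ m : ℕ, n i + 7 * (d₀ i + d₁ i + d₂ i) = 8 * m

variable {τ : ι → ι} {o : ι} {d₀ d₁ d₂ n : ι → ℤ}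

theorem sum15 (f : Fin 15 → ℤ) : ∑ l, f l = f 0 + f 1 + f 2 + f 3 + f 4 + f 5 + f 6 + f 7 + f 8 + f 9 +
    f 10 + f 11 + f 12 + f 13 + f 14 := by
  simp [Fin.sum_univ_succ]
  ring

namespace Data

/-- The line of the index. -/
def lin (d₀ d₁ d₂ : ι → ℤ) (i : ι) : Fin 15 := line (d₀ i) (d₁ i) (d₂ i)

/-- The fibre of a line. -/
def X (d₀ d₁ d₂ : ι → ℤ) (l : Fin 15) : Finset ι := Finset.univ.filter (fun i => lin d₀ d₁ d₂ i = l)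

theorem mem_X {l : Fin 15} {i : ι} : i ∈ X d₀ d₁ d₂ l ↔ lin d₀ d₁ d₂ i = l := by simp [X]

theorem sum_fib (q : Fin 15 → ℤ) :
    ∑ i, q (lin d₀ d₁ d₂ i) = ∑ l : Fin 15, ((X d₀ d₁ d₂ l).card : ℤ) * q l := by
  rw [← Finset.sum_fiberwise Finset.univ (lin d₀ d₁ d₂)]
  refine Finset.sum_congr rfl fun l _ => ?_
  rw [Finset.sum_congr rfl (g := fun _ => q l)]
  · rw [Finset.sum_const, nsmul_eq_mul]
    rfl
  · intro i hi
    rw [(Finset.mem_filter.mp hi).2]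

theorem sw_sw (l : Fin 15) : sw (sw l) = l := by
  revert l
  decide

variable (D : Data τ o d₀ d₁ d₂ n)
include D

theorem u0 (i : ι) : Unit' (d₀ i) := unit_d₀ d₀ o D.h00 D.o0 i

theorem u1 (i : ι) : Unit' (d₁ i) := unit_d₁ τ D.hτ d₁ d₂ D.h11 D.h12 D.τ1 D.τ2 i

theorem u2 (i : ι) : Unit' (d₂ i) := by
  have := D.u1 (τ i)
  rwa [D.τ1] at this

theorem lin_τ (i : ι) : lin d₀ d₁ d₂ (τ i) = sw (lin d₀ d₁ d₂ i) := by
  unfold lin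
  rw [D.τ0, D.τ1, D.τ2]
  exact line_swap (D.u0 i) (D.u1 i) (D.u2 i)

theorem card_X_sw (l : Fin 15) : (X d₀ d₁ d₂ (sw l)).card = (X d₀ d₁ d₂ l).card := by
  refine Finset.card_nbij' τ τ ?_ ?_ ?_ ?_
  · intro i hi
    have hi' : i ∈ X d₀ d₁ d₂ (sw l) := hi
    rw [mem_X] at hi'
    show τ i ∈ X d₀ d₁ d₂ l
    rw [mem_X, D.lin_τ, hi', sw_sw]
  · intro i hi
    have hi' : i ∈ X d₀ d₁ d₂ l := hi
    rw [mem_X] at hi'
    show τ i ∈ X d₀ d₁ d₂ (sw l)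
    rw [mem_X, D.lin_τ, hi']
  · intro i _
    exact D.hτ i
  · intro i _
    exact D.hτ i

/-- The classification of the fibres. -/
theorem classification :
    let m := fun l : Fin 15 => (X d₀ d₁ d₂ l).card
    m 5 = 0 ∧ m 7 = 0 ∧ m 9 + m 10 = 0 ∧ m 12 = 0 ∧ m 13 = 0 ∧ m 14 = 0 ∧
    ((m 1 = 2 ∧ m 2 = 2 ∧ m 3 = 2 ∧ m 11 = 2 ∧ m 4 = 0 ∧ m 6 = 0 ∧ m 8 = 0) ∨
     (m 1 = 1 ∧ m 2 = 1 ∧ m 3 = 1 ∧ m 11 = 1 ∧ m 4 = 1 ∧ m 6 = 1 ∧ m 8 = 1)) := by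
  intro m
  have e00 : ∑ i, q00 (lin d₀ d₁ d₂ i) = 4 := by
    rw [← D.h00]
    exact Finset.sum_congr rfl fun i _ => (eq00 (D.u0 i) (D.u1 i) (D.u2 i)).symm
  have e11 : ∑ i, q11 (lin d₀ d₁ d₂ i) = 4 := by
    rw [← D.h11]
    exact Finset.sum_congr rfl fun i _ => (eq11 (D.u0 i) (D.u1 i) (D.u2 i)).symm
  have e22 : ∑ i, q22 (lin d₀ d₁ d₂ i) = 4 := by
    rw [← D.h22]
    exact Finset.sum_congr rfl fun i _ => (eq22 (D.u0 i) (D.u1 i) (D.u2 i)).symm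
  have e01 : ∑ i, q01 (lin d₀ d₁ d₂ i) = 2 := by
    rw [← D.h01]
    exact Finset.sum_congr rfl fun i _ => (eq01 (D.u0 i) (D.u1 i) (D.u2 i)).symm
  have e02 : ∑ i, q02 (lin d₀ d₁ d₂ i) = 2 := by
    rw [← D.h02]
    exact Finset.sum_congr rfl fun i _ => (eq02 (D.u0 i) (D.u1 i) (D.u2 i)).symm
  have e12 : ∑ i, q12 (lin d₀ d₁ d₂ i) = 2 := by
    rw [← D.h12]
    exact Finset.sum_congr rfl fun i _ => (eq12 (D.u0 i) (D.u1 i) (D.u2 i)).symm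
  rw [sum_fib, sum15] at e00 e11 e22 e01 e02 e12
  have v00 := e00
  have v11 := e11
  have v22 := e22
  have v01 := e01
  have v02 := e02
  have v12 := e12
  simp [q00] at v00
  simp [q11] at v11
  simp [q22] at v22
  simp [q01] at v01
  simp [q02] at v02
  simp [q12] at v12
  have s23 : m 2 = m 3 := (card_X_sw D 2).symm
  have s46 : m 4 = m 6 := (card_X_sw D 4).symm
  have s57 : m 5 = m 7 := (card_X_sw D 5).symm
  have s910 : m 9 = m 10 := (card_X_sw D 9).symm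
  have s1213 : m 12 = m 13 := (card_X_sw D 12).symm
  have ho : 1 ≤ m 1 := by
    refine Finset.card_pos.mpr ⟨o, mem_X.mpr ?_⟩
    unfold lin
    rw [D.o0, D.o1, D.o2]
    decide
  simp only [m] at s23 s46 s57 s910 s1213 ho ⊢
  obtain ⟨r1, r2, r3, r4, r5, r6, r7⟩ := classify (X d₀ d₁ d₂ 1).card (X d₀ d₁ d₂ 2).card
    (X d₀ d₁ d₂ 3).card (X d₀ d₁ d₂ 4).card (X d₀ d₁ d₂ 5).card (X d₀ d₁ d₂ 6).card
    (X d₀ d₁ d₂ 7).card (X d₀ d₁ d₂ 8).card ((X d₀ d₁ d₂ 9).card + (X d₀ d₁ d₂ 10).card)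
    (X d₀ d₁ d₂ 11).card (X d₀ d₁ d₂ 12).card (X d₀ d₁ d₂ 13).card (X d₀ d₁ d₂ 14).card
    (by omega) (by omega) (by omega) (by omega) (by omega) (by omega)
    s23 s46 s57 s1213 (by omega) ho
  exact ⟨r1, r2, r3, r4, r5, r6, r7⟩


omit D in
theorem sum_lines (g : ι → ℚ) : ∑ i, g i = ∑ l : Fin 15, ∑ i ∈ X d₀ d₁ d₂ l, g i :=
  (Finset.sum_fiberwise Finset.univ (lin d₀ d₁ d₂) g).symm

theorem val0 {i : ι} (h : lin d₀ d₁ d₂ i = 0) : d₀ i = 0 ∧ d₁ i = 0 ∧ d₂ i = 0 :=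
  forall_triple (fun x y z => line x y z = 0 → x = 0 ∧ y = 0 ∧ z = 0) (by decide)
    (D.u0 i) (D.u1 i) (D.u2 i) h

theorem val1 {i : ι} (h : lin d₀ d₁ d₂ i = 1) : d₁ i = 0 ∧ d₂ i = 0 ∧ (d₀ i = 1 ∨ d₀ i = -1) :=
  forall_triple (fun x y z => line x y z = 1 → y = 0 ∧ z = 0 ∧ (x = 1 ∨ x = -1)) (by decide)
    (D.u0 i) (D.u1 i) (D.u2 i) h

theorem val2 {i : ι} (h : lin d₀ d₁ d₂ i = 2) : d₀ i = 0 ∧ d₂ i = 0 ∧ (d₁ i = 1 ∨ d₁ i = -1) :=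
  forall_triple (fun x y z => line x y z = 2 → x = 0 ∧ z = 0 ∧ (y = 1 ∨ y = -1)) (by decide)
    (D.u0 i) (D.u1 i) (D.u2 i) h

theorem val4 {i : ι} (h : lin d₀ d₁ d₂ i = 4) : d₂ i = 0 ∧ d₁ i = d₀ i ∧ (d₀ i = 1 ∨ d₀ i = -1) :=
  forall_triple (fun x y z => line x y z = 4 → z = 0 ∧ y = x ∧ (x = 1 ∨ x = -1)) (by decide)
    (D.u0 i) (D.u1 i) (D.u2 i) h

theorem val8 {i : ι} (h : lin d₀ d₁ d₂ i = 8) : d₀ i = 0 ∧ d₂ i = d₁ i ∧ (d₁ i = 1 ∨ d₁ i = -1) :=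
  forall_triple (fun x y z => line x y z = 8 → x = 0 ∧ z = y ∧ (y = 1 ∨ y = -1)) (by decide)
    (D.u0 i) (D.u1 i) (D.u2 i) h

theorem val11 {i : ι} (h : lin d₀ d₁ d₂ i = 11) : d₁ i = d₀ i ∧ d₂ i = d₀ i ∧ (d₀ i = 1 ∨ d₀ i = -1) :=
  forall_triple (fun x y z => line x y z = 11 → y = x ∧ z = x ∧ (x = 1 ∨ x = -1)) (by decide)
    (D.u0 i) (D.u1 i) (D.u2 i) h

theorem X_τ {l l' : Fin 15} (h : sw l = l') {i : ι} (hi : i ∈ X d₀ d₁ d₂ l) : τ i ∈ X d₀ d₁ d₂ l' := by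
  rw [mem_X] at hi ⊢
  rw [D.lin_τ, hi, h]

/-- If `X l' = τ (X l)` and `X l = {a, b}` then `X l' = {τ a, τ b}`. -/
theorem X_pair_τ {l l' : Fin 15} (h : sw l = l') {a b : ι} (hX : X d₀ d₁ d₂ l = {a, b}) :
    X d₀ d₁ d₂ l' = {τ a, τ b} := by
  ext i
  simp only [Finset.mem_insert, Finset.mem_singleton]
  constructor
  · intro hi
    have h1 : τ i ∈ X d₀ d₁ d₂ l := by
      refine D.X_τ (l := l') ?_ hi
      rw [← h, sw_sw]
    rw [hX] at h1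
    simp only [Finset.mem_insert, Finset.mem_singleton] at h1
    rcases h1 with h1 | h1
    · left
      rw [← h1, D.hτ]
    · right
      rw [← h1, D.hτ]
  · rintro (rfl | rfl)
    · exact D.X_τ h (by rw [hX]; simp)
    · exact D.X_τ h (by rw [hX]; simp)

omit D in
theorem arith8 {a b c : ℤ} (ha : a ≠ 0) (hb : b ≠ 0) (hc : c ≠ 0) (h1 : 1 + a - b - c = 0)
    (h2 : (1 : ℚ) + 1 / a - 1 / b - 1 / c = 0) : a = -1 ∨ b = 1 ∨ c = 1 := by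
  have ha' : (a : ℚ) ≠ 0 := by exact_mod_cast ha
  have hb' : (b : ℚ) ≠ 0 := by exact_mod_cast hb
  have hc' : (c : ℚ) ≠ 0 := by exact_mod_cast hc
  have h3 : (a : ℚ) * b * c + b * c - a * c - a * b = 0 := by
    field_simp at h2
    linear_combination h2
  have h4 : a * b * c + b * c - a * c - a * b = 0 := by exact_mod_cast h3
  have h5 : (a + 1) * (b * c - a) = 0 := by
    have hc2 : c = 1 + a - b := by omega
    subst hc2
    linear_combination h4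
  rcases mul_eq_zero.mp h5 with h6 | h6
  · left; omega
  · right
    have h7 : (b - 1) * (c - 1) = 0 := by
      have e : a = b * c := by omega
      have hab : 1 + b * c - b - c = 0 := by rw [← e]; exact h1
      linear_combination hab
    rcases mul_eq_zero.mp h7 with h8 | h8
    · left; omega
    · right; omega

omit D in
theorem inv_sign {ε n : ℤ} (h : ε = 1 ∨ ε = -1) : ((ε : ℚ)) / n = 1 / ((ε * n : ℤ) : ℚ) := by
  rcases h with rfl | rfl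
  · simp
  · push_cast
    rw [neg_one_mul, div_neg, neg_div]

omit D in
theorem sq_sign {ε : ℤ} (h : ε = 1 ∨ ε = -1) : ((ε : ℚ)) ^ 2 = 1 := by
  rcases h with rfl | rfl <;> simp

omit D in
theorem sum15Q (f : Fin 15 → ℚ) : ∑ l, f l = f 0 + f 1 + f 2 + f 3 + f 4 + f 5 + f 6 + f 7 + f 8 + f 9 +
    f 10 + f 11 + f 12 + f 13 + f 14 := by
  simp [Fin.sum_univ_succ]
  ring

theorem deg_sum : ∑ i, ((d₀ i : ℚ) - d₁ i) * n i = 0 := by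
  have h : ∑ i, (d₀ i * n i - d₁ i * n i) = 0 := by
    rw [Finset.sum_sub_distrib, D.deg0, D.deg1, sub_zero]
  have h2 : ((∑ i, (d₀ i * n i - d₁ i * n i) : ℤ) : ℚ) = 0 := by rw [h]; simp
  rw [← h2]
  push_cast
  exact Finset.sum_congr rfl fun i _ => by ring

theorem deg0_sum : ∑ i, (d₀ i : ℚ) * n i = 0 := by
  have h2 : ((∑ i, d₀ i * n i : ℤ) : ℚ) = 0 := by rw [D.deg0]; simp
  rw [← h2]
  push_cast
  rfl

theorem deg1_sum : ∑ i, (d₁ i : ℚ) * n i = 0 := by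
  have h2 : ((∑ i, d₁ i * n i : ℤ) : ℚ) = 0 := by rw [D.deg1]; simp
  rw [← h2]
  push_cast
  rfl

/-- The first configuration: eight vectors. -/
theorem case8 (c1 : (X d₀ d₁ d₂ 1).card = 2) (c2 : (X d₀ d₁ d₂ 2).card = 2)
    (e4 : X d₀ d₁ d₂ 4 = ∅) (e5 : X d₀ d₁ d₂ 5 = ∅) (e6 : X d₀ d₁ d₂ 6 = ∅) (e7 : X d₀ d₁ d₂ 7 = ∅)
    (e8 : X d₀ d₁ d₂ 8 = ∅) (e9 : X d₀ d₁ d₂ 9 = ∅) (e10 : X d₀ d₁ d₂ 10 = ∅)
    (e12 : X d₀ d₁ d₂ 12 = ∅) (e13 : X d₀ d₁ d₂ 13 = ∅) (e14 : X d₀ d₁ d₂ 14 = ∅) :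
    ∃ i, n i = 1 ∧ ¬ (d₀ i = 1 ∧ d₁ i = 0 ∧ d₂ i = 0) := by
  have ho : o ∈ X d₀ d₁ d₂ 1 := by
    rw [mem_X]
    unfold lin
    rw [D.o0, D.o1, D.o2]
    decide
  obtain ⟨z, hoz, hX1⟩ : ∃ z, o ≠ z ∧ X d₀ d₁ d₂ 1 = {o, z} := by
    obtain ⟨x, y, hxy, h⟩ := Finset.card_eq_two.mp c1
    rw [h] at ho
    simp only [Finset.mem_insert, Finset.mem_singleton] at ho
    rcases ho with rfl | rfl
    · exact ⟨y, hxy, h⟩
    · exact ⟨x, hxy.symm, by rw [h, Finset.pair_comm]⟩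
  obtain ⟨β, γ, hβγ, hX2⟩ := Finset.card_eq_two.mp c2
  have hX3 := D.X_pair_τ (l := 2) (l' := 3) rfl hX2
  have hτinj : Function.Injective τ := fun a b h => by
    rw [← D.hτ a, ← D.hτ b, h]
  have lz : lin d₀ d₁ d₂ z = 1 := mem_X.mp (by rw [hX1]; simp)
  have lβ : lin d₀ d₁ d₂ β = 2 := mem_X.mp (by rw [hX2]; simp)
  have lγ : lin d₀ d₁ d₂ γ = 2 := mem_X.mp (by rw [hX2]; simp)
  obtain ⟨z1, z2, z0⟩ := D.val1 lz
  obtain ⟨β0, β2, β1⟩ := D.val2 lβ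
  obtain ⟨γ0, γ2, γ1⟩ := D.val2 lγ
  have key : ∀ g : ι → ℚ, (∀ i, lin d₀ d₁ d₂ i = 0 → g i = 0) → (∀ i, lin d₀ d₁ d₂ i = 11 → g i = 0) →
      ∑ i, g i = g o + g z + g β + g γ + g (τ β) + g (τ γ) := by
    intro g h0 h11
    have s0 : ∑ i ∈ X d₀ d₁ d₂ 0, g i = 0 := Finset.sum_eq_zero fun i hi => h0 i (mem_X.mp hi)
    have s11 : ∑ i ∈ X d₀ d₁ d₂ 11, g i = 0 := Finset.sum_eq_zero fun i hi => h11 i (mem_X.mp hi)
    rw [sum_lines (d₀ := d₀) (d₁ := d₁) (d₂ := d₂), sum15Q, s0, s11, hX1, hX2, hX3, e4, e5, e6, e7, e8,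
      e9, e10, e12, e13, e14, Finset.sum_pair hoz, Finset.sum_pair hβγ,
      Finset.sum_pair (fun h => hβγ (hτinj h))]
    simp only [Finset.sum_empty]
    ring
  have npos : ∀ i, (n i : ℚ) ≠ 0 := fun i => by
    have := D.pos i
    exact_mod_cast this.ne'
  -- the degree equation
  have E1 := D.deg_sum
  rw [key (fun i => ((d₀ i : ℚ) - d₁ i) * n i)
    (fun i hi => by
      obtain ⟨a0, a1, a2⟩ := D.val0 hi
      simp [a0, a1])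
    (fun i hi => by
      obtain ⟨a1, a2, a0⟩ := D.val11 hi
      simp [a1])] at E1
  simp only [D.τ0, D.τ1, D.o0, D.o1, D.no, z1, β0, γ0, β2, γ2] at E1
  -- the form
  have E2 := D.form
  rw [key (fun i => ((d₀ i + d₁ i + d₂ i) ^ 2 * (2 * d₀ i - d₁ i - d₂ i) : ℚ) / (n i : ℚ))
    (fun i hi => by
      obtain ⟨a0, a1, a2⟩ := D.val0 hi
      simp [a0, a1, a2])
    (fun i hi => by
      obtain ⟨a1, a2, a0⟩ := D.val11 hi
      have : (2 * (d₀ i : ℚ) - d₁ i - d₂ i) = 0 := by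
        rw [a1, a2]
        ring
      simp only [this, mul_zero, zero_div])] at E2
  simp only [D.τ0, D.τ1, D.τ2, D.τn, D.o0, D.o1, D.o2, D.no, z1, z2, β0, γ0, β2, γ2] at E2
  have hz := sq_sign z0
  have hβ := sq_sign β1
  have hγ := sq_sign γ1
  have E3 : (1 : ℚ) + (d₀ z : ℚ) / n z - (d₁ β : ℚ) / n β - (d₁ γ : ℚ) / n γ = 0 := by
    have e1 : (((d₀ z : ℤ) : ℚ) + ((0 : ℤ) : ℚ) + ((0 : ℤ) : ℚ)) ^ 2 *
        (2 * ((d₀ z : ℤ) : ℚ) - ((0 : ℤ) : ℚ) - ((0 : ℤ) : ℚ)) / (n z : ℚ) = 2 * ((d₀ z : ℚ) / n z) := by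
      push_cast
      rw [add_zero, add_zero, hz]
      ring
    have e2 : (((0 : ℤ) : ℚ) + ((d₁ β : ℤ) : ℚ) + ((0 : ℤ) : ℚ)) ^ 2 *
        (2 * ((0 : ℤ) : ℚ) - ((d₁ β : ℤ) : ℚ) - ((0 : ℤ) : ℚ)) / (n β : ℚ) = - ((d₁ β : ℚ) / n β) := by
      push_cast
      rw [zero_add, add_zero, hβ]
      ring
    have e2' : (((0 : ℤ) : ℚ) + ((0 : ℤ) : ℚ) + ((d₁ β : ℤ) : ℚ)) ^ 2 *
        (2 * ((0 : ℤ) : ℚ) - ((0 : ℤ) : ℚ) - ((d₁ β : ℤ) : ℚ)) / (n β : ℚ) = - ((d₁ β : ℚ) / n β) := by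
      push_cast
      rw [zero_add, zero_add, hβ]
      ring
    have e3 : (((0 : ℤ) : ℚ) + ((d₁ γ : ℤ) : ℚ) + ((0 : ℤ) : ℚ)) ^ 2 *
        (2 * ((0 : ℤ) : ℚ) - ((d₁ γ : ℤ) : ℚ) - ((0 : ℤ) : ℚ)) / (n γ : ℚ) = - ((d₁ γ : ℚ) / n γ) := by
      push_cast
      rw [zero_add, add_zero, hγ]
      ring
    have e3' : (((0 : ℤ) : ℚ) + ((0 : ℤ) : ℚ) + ((d₁ γ : ℤ) : ℚ)) ^ 2 *
        (2 * ((0 : ℤ) : ℚ) - ((0 : ℤ) : ℚ) - ((d₁ γ : ℤ) : ℚ)) / (n γ : ℚ) = - ((d₁ γ : ℚ) / n γ) := by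
      push_cast
      rw [zero_add, zero_add, hγ]
      ring
    rw [e1, e2, e2', e3, e3'] at E2
    norm_num at E2
    linarith
  rw [inv_sign z0, inv_sign β1, inv_sign γ1] at E3
  have hE1 : 1 + d₀ z * n z - d₁ β * n β - d₁ γ * n γ = 0 := by
    have : ((1 + d₀ z * n z - d₁ β * n β - d₁ γ * n γ : ℤ) : ℚ) = 0 := by
      push_cast
      push_cast at E1
      linarith
    exact_mod_cast this
  have hne : ∀ {ε m : ℤ}, (ε = 1 ∨ ε = -1) → 0 < m → ε * m ≠ 0 := by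
    intro ε m hε hm
    rcases hε with rfl | rfl <;> omega
  rcases arith8 (hne z0 (D.pos z)) (hne β1 (D.pos β)) (hne γ1 (D.pos γ)) hE1 E3 with h | h | h
  · refine ⟨z, ?_, ?_⟩
    · have := D.pos z
      rcases z0 with h0 | h0 <;> rw [h0] at h <;> omega
    · rintro ⟨h1, -, -⟩
      rw [h1] at h
      have := D.pos z
      omega
  · refine ⟨β, ?_, ?_⟩
    · have := D.pos β
      rcases β1 with h0 | h0 <;> rw [h0] at h <;> omega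
    · rintro ⟨-, h1, -⟩
      rw [h1] at h
      omega
  · refine ⟨γ, ?_, ?_⟩
    · have := D.pos γ
      rcases γ1 with h0 | h0 <;> rw [h0] at h <;> omega
    · rintro ⟨-, h1, -⟩
      rw [h1] at h
      omega

omit D in
theorem arith7 {a b c : ℤ} (ha : a ≠ 0) (hb : b ≠ 0) (hc : c ≠ 0) (h1 : a - b + 1 - c = 0)
    (h2 : (1 : ℚ) - 1 / b + 4 / a - 4 / c = 0) : b = 1 ∨ (a + 4) * (b - a + 3) = 12 := by
  have ha' : (a : ℚ) ≠ 0 := by exact_mod_cast ha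
  have hb' : (b : ℚ) ≠ 0 := by exact_mod_cast hb
  have hc' : (c : ℚ) ≠ 0 := by exact_mod_cast hc
  have h3 : (a : ℚ) * b * c - a * c + 4 * b * c - 4 * a * b = 0 := by
    field_simp at h2
    linear_combination h2
  have h4 : a * b * c - a * c + 4 * b * c - 4 * a * b = 0 := by exact_mod_cast h3
  have hc2 : c = a - b + 1 := by omega
  subst hc2
  have h5 : (b - 1) * (a * (a - b + 1) - 4 * b) = 0 := by
    linear_combination h4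
  rcases mul_eq_zero.mp h5 with h6 | h6
  · left; omega
  · right
    linear_combination (-1 : ℤ) * h6

omit D in
theorem arith7' {a k m : ℤ} (h : (a + 4) * k = 12) (hm : 0 ≤ m)
    (hcase : (0 < a ∧ a + 14 = 8 * m) ∨ (a < 0 ∧ -a - 14 = 8 * m)) : a = 2 := by
  have hd : a + 4 ∣ 12 := ⟨k, h.symm⟩
  have h3 : a + 4 ≤ 12 := Int.le_of_dvd (by norm_num) hd
  have h4 : -(a + 4) ≤ 12 := Int.le_of_dvd (by norm_num) ((neg_dvd).mpr hd)
  have h5 : -16 ≤ a := by omega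
  have h6 : a ≤ 8 := by omega
  interval_cases a <;> omega

omit D in
theorem X_single_τ' {a : ι} : ({a, a} : Finset ι) = {a} := Finset.pair_eq_singleton a

theorem X_single_τ {l l' : Fin 15} (h : sw l = l') {a : ι} (hX : X d₀ d₁ d₂ l = {a}) :
    X d₀ d₁ d₂ l' = {τ a} := by
  have := D.X_pair_τ (a := a) (b := a) h (by rw [hX, X_single_τ'])
  rwa [X_single_τ'] at this

/-- The second configuration: seven vectors. -/
theorem case7 (c1 : (X d₀ d₁ d₂ 1).card = 1) (c2 : (X d₀ d₁ d₂ 2).card = 1)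
    (c4 : (X d₀ d₁ d₂ 4).card = 1) (c8 : (X d₀ d₁ d₂ 8).card = 1) (c11 : (X d₀ d₁ d₂ 11).card = 1)
    (e5 : X d₀ d₁ d₂ 5 = ∅) (e7 : X d₀ d₁ d₂ 7 = ∅)
    (e9 : X d₀ d₁ d₂ 9 = ∅) (e10 : X d₀ d₁ d₂ 10 = ∅)
    (e12 : X d₀ d₁ d₂ 12 = ∅) (e13 : X d₀ d₁ d₂ 13 = ∅) (e14 : X d₀ d₁ d₂ 14 = ∅) :
    ∃ i, n i = 1 ∧ ¬ (d₀ i = 1 ∧ d₁ i = 0 ∧ d₂ i = 0) := by
  have ho : o ∈ X d₀ d₁ d₂ 1 := by
    rw [mem_X]
    unfold lin
    rw [D.o0, D.o1, D.o2]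
    decide
  have hX1 : X d₀ d₁ d₂ 1 = {o} := by
    obtain ⟨x, h⟩ := Finset.card_eq_one.mp c1
    rw [h] at ho
    rw [Finset.mem_singleton.mp ho]
    exact h
  obtain ⟨β, hX2⟩ := Finset.card_eq_one.mp c2
  obtain ⟨x, hX4⟩ := Finset.card_eq_one.mp c4
  obtain ⟨y, hX8⟩ := Finset.card_eq_one.mp c8
  obtain ⟨z, hX11⟩ := Finset.card_eq_one.mp c11
  have hX3 := D.X_single_τ (l := 2) (l' := 3) rfl hX2
  have hX6 := D.X_single_τ (l := 4) (l' := 6) rfl hX4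
  have lβ : lin d₀ d₁ d₂ β = 2 := mem_X.mp (by rw [hX2]; simp)
  have lx : lin d₀ d₁ d₂ x = 4 := mem_X.mp (by rw [hX4]; simp)
  have ly : lin d₀ d₁ d₂ y = 8 := mem_X.mp (by rw [hX8]; simp)
  have lz : lin d₀ d₁ d₂ z = 11 := mem_X.mp (by rw [hX11]; simp)
  obtain ⟨β0, β2, β1⟩ := D.val2 lβ
  obtain ⟨x2, x1, x0⟩ := D.val4 lx
  obtain ⟨y0, y2, y1⟩ := D.val8 ly
  obtain ⟨z1, z2, z0⟩ := D.val11 lz
  have key : ∀ g : ι → ℚ, (∀ i, lin d₀ d₁ d₂ i = 0 → g i = 0) →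
      ∑ i, g i = g o + g β + g (τ β) + g x + g (τ x) + g y + g z := by
    intro g h0
    have s0 : ∑ i ∈ X d₀ d₁ d₂ 0, g i = 0 := Finset.sum_eq_zero fun i hi => h0 i (mem_X.mp hi)
    rw [sum_lines (d₀ := d₀) (d₁ := d₁) (d₂ := d₂), sum15Q, s0, hX1, hX2, hX3, hX4, hX6, hX8, hX11, e5, e7,
      e9, e10, e12, e13, e14]
    simp only [Finset.sum_empty, Finset.sum_singleton]
    ring
  have E0 := D.deg0_sum
  rw [key (fun i => (d₀ i : ℚ) * n i)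
    (fun i hi => by
      obtain ⟨a0, a1, a2⟩ := D.val0 hi
      simp [a0])] at E0
  simp only [D.τ0, D.τn, D.o0, D.no, β0, y0] at E0
  have E1 := D.deg1_sum
  rw [key (fun i => (d₁ i : ℚ) * n i)
    (fun i hi => by
      obtain ⟨a0, a1, a2⟩ := D.val0 hi
      simp [a1])] at E1
  simp only [D.τ1, D.τn, D.o1, D.no, β2, x1, x2, z1] at E1
  have E2 := D.form
  rw [key (fun i => ((d₀ i + d₁ i + d₂ i) ^ 2 * (2 * d₀ i - d₁ i - d₂ i) : ℚ) / (n i : ℚ))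
    (fun i hi => by
      obtain ⟨a0, a1, a2⟩ := D.val0 hi
      simp [a0, a1, a2])] at E2
  simp only [D.τ0, D.τ1, D.τ2, D.τn, D.o0, D.o1, D.o2, D.no, β0, β2, x1, x2, y0, y2, z1, z2] at E2
  have hβ := sq_sign β1
  have hx := sq_sign x0
  have hy := sq_sign y1
  have E3 : (1 : ℚ) - (d₁ β : ℚ) / n β + 4 * ((d₀ x : ℚ) / n x) - 4 * ((d₁ y : ℚ) / n y) = 0 := by
    have e1 : (((0 : ℤ) : ℚ) + ((d₁ β : ℤ) : ℚ) + ((0 : ℤ) : ℚ)) ^ 2 *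
        (2 * ((0 : ℤ) : ℚ) - ((d₁ β : ℤ) : ℚ) - ((0 : ℤ) : ℚ)) / (n β : ℚ) = - ((d₁ β : ℚ) / n β) := by
      push_cast
      rw [zero_add, add_zero, hβ]
      ring
    have e1' : (((0 : ℤ) : ℚ) + ((0 : ℤ) : ℚ) + ((d₁ β : ℤ) : ℚ)) ^ 2 *
        (2 * ((0 : ℤ) : ℚ) - ((0 : ℤ) : ℚ) - ((d₁ β : ℤ) : ℚ)) / (n β : ℚ) = - ((d₁ β : ℚ) / n β) := by
      push_cast
      rw [zero_add, zero_add, hβ]
      ring
    have e2 : (((d₀ x : ℤ) : ℚ) + ((d₀ x : ℤ) : ℚ) + ((0 : ℤ) : ℚ)) ^ 2 *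
        (2 * ((d₀ x : ℤ) : ℚ) - ((d₀ x : ℤ) : ℚ) - ((0 : ℤ) : ℚ)) / (n x : ℚ) = 4 * ((d₀ x : ℚ) / n x) := by
      have : (((d₀ x : ℤ) : ℚ) + ((d₀ x : ℤ) : ℚ) + ((0 : ℤ) : ℚ)) ^ 2 = 4 := by
        push_cast
        linear_combination 4 * hx
      rw [this]
      push_cast
      ring
    have e2' : (((d₀ x : ℤ) : ℚ) + ((0 : ℤ) : ℚ) + ((d₀ x : ℤ) : ℚ)) ^ 2 *
        (2 * ((d₀ x : ℤ) : ℚ) - ((0 : ℤ) : ℚ) - ((d₀ x : ℤ) : ℚ)) / (n x : ℚ) = 4 * ((d₀ x : ℚ) / n x) := by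
      have : (((d₀ x : ℤ) : ℚ) + ((0 : ℤ) : ℚ) + ((d₀ x : ℤ) : ℚ)) ^ 2 = 4 := by
        push_cast
        linear_combination 4 * hx
      rw [this]
      push_cast
      ring
    have e3 : (((0 : ℤ) : ℚ) + ((d₁ y : ℤ) : ℚ) + ((d₁ y : ℤ) : ℚ)) ^ 2 *
        (2 * ((0 : ℤ) : ℚ) - ((d₁ y : ℤ) : ℚ) - ((d₁ y : ℤ) : ℚ)) / (n y : ℚ) = -8 * ((d₁ y : ℚ) / n y) := by
      have : (((0 : ℤ) : ℚ) + ((d₁ y : ℤ) : ℚ) + ((d₁ y : ℤ) : ℚ)) ^ 2 = 4 := by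
        push_cast
        linear_combination 4 * hy
      rw [this]
      push_cast
      ring
    have e4 : (((d₀ z : ℤ) : ℚ) + ((d₀ z : ℤ) : ℚ) + ((d₀ z : ℤ) : ℚ)) ^ 2 *
        (2 * ((d₀ z : ℤ) : ℚ) - ((d₀ z : ℤ) : ℚ) - ((d₀ z : ℤ) : ℚ)) / (n z : ℚ) = 0 := by
      have : (2 * ((d₀ z : ℤ) : ℚ) - ((d₀ z : ℤ) : ℚ) - ((d₀ z : ℤ) : ℚ)) = 0 := by ring
      rw [this, mul_zero, zero_div]
    rw [e1, e1', e2, e2', e3, e4] at E2
    norm_num at E2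
    linarith
  have e1 : (4 : ℚ) * ((d₀ x : ℚ) / n x) = 4 / ((d₀ x * n x : ℤ) : ℚ) := by
    rw [inv_sign x0]
    ring
  have e2 : (4 : ℚ) * ((d₁ y : ℚ) / n y) = 4 / ((d₁ y * n y : ℤ) : ℚ) := by
    rw [inv_sign y1]
    ring
  rw [e1, e2, inv_sign β1] at E3
  have hne : ∀ {ε m : ℤ}, (ε = 1 ∨ ε = -1) → 0 < m → ε * m ≠ 0 := by
    intro ε m hε hm
    rcases hε with rfl | rfl <;> omega
  have hE0 : 1 + 2 * (d₀ x * n x) + d₀ z * n z = 0 := by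
    have : ((1 + 2 * (d₀ x * n x) + d₀ z * n z : ℤ) : ℚ) = 0 := by
      push_cast
      push_cast at E0
      linarith
    exact_mod_cast this
  have hE1 : d₁ β * n β + d₀ x * n x + d₁ y * n y + d₀ z * n z = 0 := by
    have : ((d₁ β * n β + d₀ x * n x + d₁ y * n y + d₀ z * n z : ℤ) : ℚ) = 0 := by
      push_cast
      push_cast at E1
      linarith
    exact_mod_cast this
  have hb1 : d₁ β * n β = 1 → ∃ i, n i = 1 ∧ ¬ (d₀ i = 1 ∧ d₁ i = 0 ∧ d₂ i = 0) := by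
    intro h
    refine ⟨β, ?_, ?_⟩
    · have := D.pos β
      rcases β1 with h0 | h0 <;> rw [h0] at h <;> omega
    · rintro ⟨-, h1, -⟩
      rw [h1] at h
      omega
  rcases arith7 (hne x0 (D.pos x)) (hne β1 (D.pos β)) (hne y1 (D.pos y)) (by omega) E3 with h | h
  · exact hb1 h
  · apply hb1
    obtain ⟨m, hm⟩ := D.cong x (Or.inl (by rcases x0 with h0 | h0 <;> rw [h0] <;> norm_num))
    rw [x1, x2] at hm
    have hpos := D.pos x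
    have h2 : d₀ x * n x = 2 := by
      refine arith7' h (m := (m : ℤ)) (by omega) ?_
      rcases x0 with h0 | h0
      · left
        rw [h0] at hm ⊢
        constructor <;> omega
      · right
        rw [h0] at hm ⊢
        constructor <;> omega
    rw [h2] at h
    omega

/-- **The lattice lemma.** -/
theorem main : ∃ i, n i = 1 ∧ ¬ (d₀ i = 1 ∧ d₁ i = 0 ∧ d₂ i = 0) := by
  obtain ⟨r5, r7, r9, r12, r13, r14, hT⟩ := D.classification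
  have e5 : X d₀ d₁ d₂ 5 = ∅ := Finset.card_eq_zero.mp r5
  have e7 : X d₀ d₁ d₂ 7 = ∅ := Finset.card_eq_zero.mp r7
  have e9 : X d₀ d₁ d₂ 9 = ∅ := Finset.card_eq_zero.mp (by simp only at r9; omega)
  have e10 : X d₀ d₁ d₂ 10 = ∅ := Finset.card_eq_zero.mp (by simp only at r9; omega)
  have e12 : X d₀ d₁ d₂ 12 = ∅ := Finset.card_eq_zero.mp r12
  have e13 : X d₀ d₁ d₂ 13 = ∅ := Finset.card_eq_zero.mp r13
  have e14 : X d₀ d₁ d₂ 14 = ∅ := Finset.card_eq_zero.mp r14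
  rcases hT with ⟨c1, c2, -, -, c4, c6, c8⟩ | ⟨c1, c2, -, c11, c4, -, c8⟩
  · exact D.case8 c1 c2 (Finset.card_eq_zero.mp c4) e5 (Finset.card_eq_zero.mp c6) e7
      (Finset.card_eq_zero.mp c8) e9 e10 e12 e13 e14
  · exact D.case7 c1 c2 c4 c8 c11 e5 e7 e9 e10 e12 e13 e14

end Data

end Cfsg.Agent.Lib.E8Aut.Lattice
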