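import Mathlib
import Cfsg.Agent.Lib.CharX.Conj
import Cfsg.Agent.Lib.Nine.Basic
import Cfsg.Agent.Lib.E8Aut.Lattice
import Cfsg.Agent.Lib.E8Aut.IntVal
import Cfsg.Agent.Lib.E8Aut.Form

/-!
# The character-theoretic contradiction

From the local data of `C(t)` to a nontrivial linear character of `G`.
-/

set_option autoImplicit false
set_option linter.unusedSectionVars false
set_option linter.style.haveILetI false

namespace Cfsg.Agent.Lib.E8Aut.CharMain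

open Cfsg Subgroup
open Cfsg.Agent.Lib.Blocks.Local Cfsg.Agent.Lib.Blocks.Central Cfsg.Agent.Lib.Blocks.Third
open Cfsg.Agent.Lib.Char.Basic Cfsg.Agent.Lib.Char.Ortho Cfsg.Agent.Lib.Char.Complete
open Cfsg.Agent.Lib.E8Aut.Mult Cfsg.Agent.Lib.E8Aut.Avg Cfsg.Agent.Lib.E8Aut.IntVal
open Cfsg.Agent.Lib.E8Aut.Form Cfsg.Agent.Lib.E8Aut.Blk
open Cfsg.Agent.Lib.CharX.Conj
open scoped ComplexConjugate

universe u

theorem conj_w_sq : conj (w ^ 2) = w := by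
  rw [map_pow, conj_w]
  have h := w_cube
  calc (w ^ 2) ^ 2 = w ^ 3 * w := by ring
    _ = w := by rw [h, one_mul]

theorem conj_form (x y z : ℤ) : conj ((x : ℂ) + w * y + w ^ 2 * z) = x + w ^ 2 * y + w * z := by
  simp only [map_add, map_mul, map_intCast, conj_w, conj_w_sq]

theorem conj_form2 (x y z : ℤ) : conj ((x : ℂ) + w ^ 2 * y + w * z) = x + w * y + w ^ 2 * z := by
  simp only [map_add, map_mul, map_intCast, conj_w, conj_w_sq]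

theorem conj_form3 (x y z : ℤ) : conj ((x : ℂ) + y + z) = x + y + z := by
  simp only [map_add, map_intCast]

theorem coord_unique {a₀ a₁ a₂ b₀ b₁ b₂ : ℤ} (h1 : (a₀ : ℂ) + a₁ + a₂ = b₀ + b₁ + b₂)
    (h2 : (a₀ : ℂ) + w * a₁ + w ^ 2 * a₂ = b₀ + w * b₁ + w ^ 2 * b₂) :
    a₀ = b₀ ∧ a₁ = b₁ ∧ a₂ = b₂ := by
  have h3 : ((a₀ - a₂ - b₀ + b₂ : ℤ) : ℂ) + ((a₁ - a₂ - b₁ + b₂ : ℤ) : ℂ) * w = 0 := by
    push_cast
    linear_combination h2 + (b₂ - a₂ : ℂ) * w_sq_add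
  obtain ⟨h4, h5⟩ := int_zero h3
  have h6 : a₀ + a₁ + a₂ = b₀ + b₁ + b₂ := by exact_mod_cast h1
  omega

theorem gram_solve {p00 p11 p22 p01 p02 p12 : ℤ} (a : p00 + p11 + p22 + 2 * p01 + 2 * p02 + 2 * p12 = 24)
    (b1 : p00 - p11 + p02 - p12 = 0) (b2 : -p11 + p22 - p01 + p02 = 0)
    (c : p00 + p11 + p22 - p01 - p02 - p12 = 6) (d1 : p00 - p11 - 2 * p02 + 2 * p12 = 0)
    (d2 : -p11 + p22 + 2 * p01 - 2 * p02 = 0) :
    p00 = 4 ∧ p11 = 4 ∧ p22 = 4 ∧ p01 = 2 ∧ p02 = 2 ∧ p12 = 2 := by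
  omega

section Quad

variable {ι : Type*} [Fintype ι] (d₀ d₁ d₂ : ι → ℤ)

theorem sum_quad (c00 c11 c22 c01 c02 c12 : ℂ) :
    ∑ i, (c00 * ((d₀ i : ℂ) * d₀ i) + c11 * ((d₁ i : ℂ) * d₁ i) + c22 * ((d₂ i : ℂ) * d₂ i) +
      c01 * ((d₀ i : ℂ) * d₁ i) + c02 * ((d₀ i : ℂ) * d₂ i) + c12 * ((d₁ i : ℂ) * d₂ i)) =
    c00 * ((∑ i, d₀ i * d₀ i : ℤ) : ℂ) + c11 * ((∑ i, d₁ i * d₁ i : ℤ) : ℂ) +
      c22 * ((∑ i, d₂ i * d₂ i : ℤ) : ℂ) + c01 * ((∑ i, d₀ i * d₁ i : ℤ) : ℂ) +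
      c02 * ((∑ i, d₀ i * d₂ i : ℤ) : ℂ) + c12 * ((∑ i, d₁ i * d₂ i : ℤ) : ℂ) := by
  push_cast
  simp only [Finset.sum_add_distrib, ← Finset.mul_sum]

end Quad

variable {G : Type u} [Group G] [Fintype G] {t : G}
  [Fintype (Cn t)] [Fintype (Dc t)] [Fintype (Cn t ⧸ Dc t)]

theorem odd_card_Dc : Odd (Nat.card (Dc t)) := by
  have h : (Nat.card (Dc t)).Coprime 2 := Cfsg.Agent.Lib.Core.Basic.pPrimeCore_coprime
  exact Nat.Coprime.odd_of_right h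

theorem pow_card_D {x : Cn t} (h : x ∈ Dc t) : x ^ Nat.card (Dc t) = 1 := by
  have h1 : (⟨x, h⟩ : Dc t) ^ Nat.card (Dc t) = 1 := pow_card_eq_one'
  have h2 := congrArg Subtype.val h1
  rw [Subgroup.coe_pow, Subgroup.coe_one] at h2
  exact h2

theorem odd_of_cube {c : Cn t} (h : (c : Cn t ⧸ Dc t) ^ 3 = 1) (e : Dc t) : Odd (orderOf (c * (e : Cn t))) := by
  have h1 : (c * (e : Cn t)) ^ 3 ∈ Dc t := by
    apply (QuotientGroup.eq_one_iff _).mp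
    rw [QuotientGroup.mk_pow, QuotientGroup.mk_mul, (QuotientGroup.eq_one_iff _).mpr e.2, mul_one, h]
  have h2 : ((c * (e : Cn t)) ^ 3) ^ Nat.card (Dc t) = 1 := by
    exact pow_card_D h1
  have h3 : orderOf (c * (e : Cn t)) ∣ 3 * Nat.card (Dc t) := by
    apply orderOf_dvd_of_pow_eq_one
    rw [pow_mul, h2]
  exact Odd.of_dvd_nat (Odd.mul (by decide) odd_card_Dc) h3

theorem orderOf_ty (ht : t * t = 1) (ht1 : t ≠ 1) {f : Cn t} (hf3 : (f : Cn t ⧸ Dc t) ^ 3 = 1)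
    (hf1 : (f : Cn t ⧸ Dc t) ≠ 1) : orderOf ((tt t * f : Cn t) : Cn t ⧸ Dc t) = 6 := by
  have htb : ((tt t : Cn t) : Cn t ⧸ Dc t) ≠ 1 := by
    intro h
    have h1 : tt t ∈ Dc t := (QuotientGroup.eq_one_iff _).mp h
    have h2 : (tt t) ^ Nat.card (Dc t) = 1 := by
      exact pow_card_D h1
    obtain ⟨k, hk⟩ := (odd_card_Dc (t := t))
    rw [hk, pow_succ, pow_mul, pow_two, tt_sq ht, one_pow, one_mul] at h2
    apply ht1
    exact congrArg Subtype.val h2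
  have hsq : ((tt t : Cn t) : Cn t ⧸ Dc t) ^ 2 = 1 := by
    rw [← QuotientGroup.mk_pow, pow_two, tt_sq ht]
    rfl
  have ho2 : orderOf ((tt t : Cn t) : Cn t ⧸ Dc t) = 2 := by
    haveI : Fact (Nat.Prime 2) := ⟨Nat.prime_two⟩
    exact orderOf_eq_prime hsq htb
  have ho3 : orderOf (f : Cn t ⧸ Dc t) = 3 := by
    haveI : Fact (Nat.Prime 3) := ⟨Nat.prime_three⟩
    exact orderOf_eq_prime hf3 hf1
  have hcomm : Commute ((tt t : Cn t) : Cn t ⧸ Dc t) (f : Cn t ⧸ Dc t) := by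
    change _ * _ = _ * _
    rw [← QuotientGroup.mk_mul, ← QuotientGroup.mk_mul, tt_comm f]
  rw [QuotientGroup.mk_mul, hcomm.orderOf_mul_eq_mul_orderOf_of_coprime, ho2, ho3]
  rw [ho2, ho3]
  norm_num

variable [Fintype (IrrCharacter G)] {M : Ideal AlgInt}

/-- The conjugate average. -/
theorem P_conj (χ : IrrCharacter G) (c : Cn t) :
    P ((conjIrr χ : IrrCharacter G) : G → ℂ) c = conj (P (χ : G → ℂ) c) := by
  rw [P_eq, P_eq, map_mul, map_inv₀, map_natCast, map_sum]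
  rfl

/-- **The main theorem of the character part.** -/
theorem exists_linear (hM : IsPModular 2 M) (ht : t * t = 1) (ht1 : t ≠ 1) (hsolv : Group.IsSolvable (Cn t))
    {f : Cn t} (hf3 : (f : Cn t ⧸ Dc t) ^ 3 = 1) (hf1 : (f : Cn t ⧸ Dc t) ≠ 1)
    (hQ : Nat.card (Cn t ⧸ Dc t) = 24)
    (hC : Nat.card (centralizer ({(f : Cn t ⧸ Dc t)} : Set (Cn t ⧸ Dc t))) = 6)
    (hinv : ∀ x : Cn t ⧸ Dc t, x * (f : Cn t ⧸ Dc t) * x⁻¹ ≠ (f : Cn t ⧸ Dc t)⁻¹)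
    (S : Subgroup G) [Fintype S] (hS8 : Nat.card S = 8) (hSconj : ∀ s ∈ S, s ≠ 1 → IsConj s t) :
    ∃ χ : IrrCharacter G, (χ : G → ℂ) 1 = 1 ∧ χ ≠ oneI G := by
  classical
  have hwsq := w_sq_add
  have hw3 := w_cube
  have ho := orderOf_ty ht ht1 hf3 hf1
  have hex := fun χ : IrrCharacter G => exists_int ht χ hf3 ho
  choose d₀ d₁ d₂ h1 hf hfi using hex
  have hodd1 : ∀ e : Dc t, Odd (orderOf ((1 : Cn t) * (e : Cn t))) := odd_of_cube (by simp)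
  have hoddf : ∀ e : Dc t, Odd (orderOf (f * (e : Cn t))) := odd_of_cube hf3
  have hf3' : ((f⁻¹ : Cn t) : Cn t ⧸ Dc t) ^ 3 = 1 := by
    rw [QuotientGroup.mk_inv, inv_pow, hf3, inv_one]
  have hoddi : ∀ e : Dc t, Odd (orderOf (f⁻¹ * (e : Cn t))) := odd_of_cube hf3'
  -- the Gram matrix
  have N11 : Nat.card {q : Cn t ⧸ Dc t // q * ((1 : Cn t) : Cn t ⧸ Dc t) * q⁻¹ = ((1 : Cn t) : Cn t ⧸ Dc t)} = 24 := by
    rw [← hQ]
    refine Nat.card_congr ⟨fun q => q.1, fun q => ⟨q, by simp⟩, fun q => rfl, fun q => rfl⟩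
  have N1f : Nat.card {q : Cn t ⧸ Dc t // q * ((1 : Cn t) : Cn t ⧸ Dc t) * q⁻¹ = (f : Cn t ⧸ Dc t)} = 0 := by
    have : IsEmpty {q : Cn t ⧸ Dc t // q * ((1 : Cn t) : Cn t ⧸ Dc t) * q⁻¹ = (f : Cn t ⧸ Dc t)} :=
      ⟨fun q => hf1 (by
        have := q.2
        rw [← this]
        simp)⟩
    exact Nat.card_of_isEmpty
  have Nff : Nat.card {q : Cn t ⧸ Dc t // q * (f : Cn t ⧸ Dc t) * q⁻¹ = (f : Cn t ⧸ Dc t)} = 6 := by
    rw [← hC]
    refine Nat.card_congr ⟨fun q => ⟨q.1, ?_⟩, fun q => ⟨q.1, ?_⟩, fun q => rfl, fun q => rfl⟩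
    · rw [Subgroup.mem_centralizer_singleton_iff]
      exact mul_inv_eq_iff_eq_mul.mp q.2
    · have := Subgroup.mem_centralizer_singleton_iff.mp q.2
      rw [this]
      group
  have Nfi : Nat.card {q : Cn t ⧸ Dc t // q * (f : Cn t ⧸ Dc t) * q⁻¹ = ((f⁻¹ : Cn t) : Cn t ⧸ Dc t)} = 0 := by
    have : IsEmpty {q : Cn t ⧸ Dc t // q * (f : Cn t ⧸ Dc t) * q⁻¹ = ((f⁻¹ : Cn t) : Cn t ⧸ Dc t)} :=
      ⟨fun q => hinv q.1 (by
        rw [q.2, QuotientGroup.mk_inv])⟩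
    exact Nat.card_of_isEmpty
  have E11 := sum_P_conj (G := G) ht (1 : Cn t) (1 : Cn t) hodd1 hodd1
  have E1f := sum_P_conj (G := G) ht (1 : Cn t) f hodd1 hoddf
  have Eff := sum_P_conj (G := G) ht f f hoddf hoddf
  have Efi := sum_P_conj (G := G) ht f f⁻¹ hoddf hoddi
  rw [N11] at E11
  rw [N1f] at E1f
  rw [Nff] at Eff
  rw [Nfi] at Efi
  simp_rw [h1, hf, hfi, conj_form, conj_form2, conj_form3] at E11 E1f Eff Efi
  have q11 : ∀ x : IrrCharacter G, ((d₀ x : ℂ) + d₁ x + d₂ x) * ((d₀ x : ℂ) + d₁ x + d₂ x) =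
      1 * ((d₀ x : ℂ) * d₀ x) + 1 * ((d₁ x : ℂ) * d₁ x) + 1 * ((d₂ x : ℂ) * d₂ x) +
        2 * ((d₀ x : ℂ) * d₁ x) + 2 * ((d₀ x : ℂ) * d₂ x) + 2 * ((d₁ x : ℂ) * d₂ x) := fun x => by ring
  have q1f : ∀ x : IrrCharacter G, ((d₀ x : ℂ) + d₁ x + d₂ x) * ((d₀ x : ℂ) + w ^ 2 * d₁ x + w * d₂ x) =
      1 * ((d₀ x : ℂ) * d₀ x) + w ^ 2 * ((d₁ x : ℂ) * d₁ x) + w * ((d₂ x : ℂ) * d₂ x) +
        (1 + w ^ 2) * ((d₀ x : ℂ) * d₁ x) + (1 + w) * ((d₀ x : ℂ) * d₂ x) +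
          (w + w ^ 2) * ((d₁ x : ℂ) * d₂ x) := fun x => by ring
  have qff : ∀ x : IrrCharacter G, ((d₀ x : ℂ) + w * d₁ x + w ^ 2 * d₂ x) * ((d₀ x : ℂ) + w ^ 2 * d₁ x + w * d₂ x) =
      1 * ((d₀ x : ℂ) * d₀ x) + 1 * ((d₁ x : ℂ) * d₁ x) + 1 * ((d₂ x : ℂ) * d₂ x) +
        (-1) * ((d₀ x : ℂ) * d₁ x) + (-1) * ((d₀ x : ℂ) * d₂ x) + (-1) * ((d₁ x : ℂ) * d₂ x) := fun x => by
    linear_combination ((d₁ x : ℂ) * d₁ x + (d₂ x : ℂ) * d₂ x) * hw3 +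
      ((d₀ x : ℂ) * d₁ x + (d₀ x : ℂ) * d₂ x + (w ^ 2 - w + 1) * ((d₁ x : ℂ) * d₂ x)) * hwsq
  have qfi : ∀ x : IrrCharacter G, ((d₀ x : ℂ) + w * d₁ x + w ^ 2 * d₂ x) * ((d₀ x : ℂ) + w * d₁ x + w ^ 2 * d₂ x) =
      1 * ((d₀ x : ℂ) * d₀ x) + w ^ 2 * ((d₁ x : ℂ) * d₁ x) + w * ((d₂ x : ℂ) * d₂ x) +
        (2 * w) * ((d₀ x : ℂ) * d₁ x) + (2 * w ^ 2) * ((d₀ x : ℂ) * d₂ x) + 2 * ((d₁ x : ℂ) * d₂ x) := fun x => by
    linear_combination (w * ((d₂ x : ℂ) * d₂ x) + 2 * ((d₁ x : ℂ) * d₂ x)) * hw3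
  simp_rw [q11] at E11
  simp_rw [q1f] at E1f
  simp_rw [qff] at Eff
  simp_rw [qfi] at Efi
  rw [sum_quad] at E11 E1f Eff Efi
  set p00 : ℤ := ∑ i, d₀ i * d₀ i with hp00
  set p11 : ℤ := ∑ i, d₁ i * d₁ i with hp11
  set p22 : ℤ := ∑ i, d₂ i * d₂ i with hp22
  set p01 : ℤ := ∑ i, d₀ i * d₁ i with hp01
  set p02 : ℤ := ∑ i, d₀ i * d₂ i with hp02
  set p12 : ℤ := ∑ i, d₁ i * d₂ i with hp12
  have g1 : p00 + p11 + p22 + 2 * p01 + 2 * p02 + 2 * p12 = 24 := by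
    have : ((p00 + p11 + p22 + 2 * p01 + 2 * p02 + 2 * p12 : ℤ) : ℂ) = ((24 : ℤ) : ℂ) := by
      push_cast
      push_cast at E11
      linear_combination E11
    exact_mod_cast this
  have g2 : ((p00 - p11 + p02 - p12 : ℤ) : ℂ) + ((-p11 + p22 - p01 + p02 : ℤ) : ℂ) * w = 0 := by
    push_cast
    push_cast at E1f
    linear_combination E1f - ((p11 : ℂ) + p01 + p12) * hwsq
  obtain ⟨b1, b2⟩ := int_zero g2
  have g3 : p00 + p11 + p22 - p01 - p02 - p12 = 6 := by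
    have : ((p00 + p11 + p22 - p01 - p02 - p12 : ℤ) : ℂ) = ((6 : ℤ) : ℂ) := by
      push_cast
      push_cast at Eff
      linear_combination Eff
    exact_mod_cast this
  have g4 : ((p00 - p11 - 2 * p02 + 2 * p12 : ℤ) : ℂ) + ((-p11 + p22 + 2 * p01 - 2 * p02 : ℤ) : ℂ) * w = 0 := by
    push_cast
    push_cast at Efi
    linear_combination Efi - ((p11 : ℂ) + 2 * p02) * hwsq
  obtain ⟨d1, d2⟩ := int_zero g4
  obtain ⟨r00, r11, r22, r01, r02, r12⟩ := gram_solve g1 b1 b2 g3 d1 d2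
  -- the degrees
  have hdeg := fun χ : IrrCharacter G => exists_deg_of_isCharacter (isCharacter_of_isIrrCharacter χ.2)
  choose m hm using hdeg
  let n : IrrCharacter G → ℤ := fun χ => (m χ : ℤ)
  have hn : ∀ χ : IrrCharacter G, (χ : G → ℂ) 1 = (n χ : ℂ) := fun χ => by
    rw [hm χ]
    simp [n]
  have hnpos : ∀ χ : IrrCharacter G, 0 < n χ := by
    intro χ
    have h2 : (χ : G → ℂ) 1 ≠ 0 := irr_one_ne_zero χ.2
    rw [hm χ] at h2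
    have h3 : m χ ≠ 0 := fun h => h2 (by rw [h]; simp)
    have : 0 < m χ := Nat.pos_of_ne_zero h3
    change (0 : ℤ) < (m χ : ℤ)
    exact_mod_cast this
  have hconjn : ∀ χ : IrrCharacter G, conj ((χ : G → ℂ) 1) = (n χ : ℂ) := fun χ => by
    rw [hn, map_intCast]
  -- the trivial character
  have hPo : ∀ c : Cn t, P ((oneI G : IrrCharacter G) : G → ℂ) c = 1 := by
    intro c
    have hD0 : (Nat.card (Dc t) : ℂ) ≠ 0 := Nat.cast_ne_zero.mpr Nat.card_pos.ne'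
    rw [P_eq]
    simp only [oneI_apply]
    rw [Finset.sum_const, Finset.card_univ, nsmul_eq_mul, ← Nat.card_eq_fintype_card, mul_one]
    field_simp
  have ho : d₀ (oneI G) = 1 ∧ d₁ (oneI G) = 0 ∧ d₂ (oneI G) = 0 := by
    apply coord_unique
    · rw [← h1, hPo]
      simp
    · rw [← hf, hPo]
      simp
  have hno : n (oneI G) = 1 := by
    have h2 := hn (oneI G)
    rw [oneI_apply] at h2
    exact_mod_cast h2.symm
  -- conjugation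
  have hτ : ∀ χ : IrrCharacter G, d₀ (conjIrr χ) = d₀ χ ∧ d₁ (conjIrr χ) = d₂ χ ∧ d₂ (conjIrr χ) = d₁ χ := by
    intro χ
    apply coord_unique
    · rw [← h1, P_conj, h1, conj_form3]
      ring
    · rw [← hf, P_conj, hf, conj_form]
      ring
  have hτn : ∀ χ : IrrCharacter G, n (conjIrr χ) = n χ := by
    intro χ
    have h2 := hn (conjIrr χ)
    rw [conjIrr_apply, hconjn] at h2
    exact_mod_cast h2.symm
  -- orthogonality to the degrees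
  have D1 := sum_P_deg (G := G) ht1 ht (1 : Cn t) hodd1
  have Df := sum_P_deg (G := G) ht1 ht f hoddf
  simp_rw [h1, hconjn] at D1
  simp_rw [hf, hconjn] at Df
  have hq : (∑ i, d₀ i * n i = 0) ∧ (∑ i, d₁ i * n i = 0) ∧ (∑ i, d₂ i * n i = 0) := by
    have D1' : ∑ i, (d₀ i : ℂ) * n i + ∑ i, (d₁ i : ℂ) * n i + ∑ i, (d₂ i : ℂ) * n i = 0 := by
      rw [← D1, ← Finset.sum_add_distrib, ← Finset.sum_add_distrib]
      refine Finset.sum_congr rfl fun i _ => ?_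
      ring
    have Df' : ∑ i, (d₀ i : ℂ) * n i + w * ∑ i, (d₁ i : ℂ) * n i + w ^ 2 * ∑ i, (d₂ i : ℂ) * n i = 0 := by
      rw [← Df, Finset.mul_sum, Finset.mul_sum, ← Finset.sum_add_distrib, ← Finset.sum_add_distrib]
      refine Finset.sum_congr rfl fun i _ => ?_
      ring
    apply coord_unique
    · push_cast
      simpa using D1'
    · push_cast
      simpa using Df'
  -- vanishing outside the principal block
  have hto : ∃ k : ℕ, orderOf t = 2 ^ k := by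
    haveI : Fact (Nat.Prime 2) := ⟨Nat.prime_two⟩
    exact ⟨1, by rw [pow_one]; exact orderOf_eq_prime (by rw [pow_two]; exact ht) ht1⟩
  have hnotB : ∀ χ : IrrCharacter G, χ ∉ principalBlock M G → d₀ χ = 0 ∧ d₁ χ = 0 ∧ d₂ χ = 0 := by
    intro χ hχ
    have e1 := P_eq_zero hM hsolv hto hχ (1 : Cn t) (fun e h2 => by
      obtain ⟨k, hk⟩ := hodd1 e
      omega)
    have e2 := P_eq_zero hM hsolv hto hχ f (fun e h2 => by
      obtain ⟨k, hk⟩ := hoddf e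
      omega)
    apply coord_unique
    · rw [← h1, e1]
      simp
    · rw [← hf, e2]
      simp
  have hvalt : ∀ χ : IrrCharacter G, χ ∈ principalBlock M G → (χ : G → ℂ) t = d₀ χ + d₁ χ + d₂ χ := by
    intro χ hχ
    rw [← h1, P_one_eq hM hto hχ]
  -- the form
  have F0 := form_eq_zero (G := G) ht hoddf hinv
  have hterm : ∀ χ : IrrCharacter G, (χ : G → ℂ) t * (χ : G → ℂ) t * conj (P (χ : G → ℂ) f) / (χ : G → ℂ) 1 =
      (((d₀ χ + d₁ χ + d₂ χ) ^ 2 * d₀ χ : ℚ) / (n χ : ℚ) : ℚ) +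
        w ^ 2 * (((d₀ χ + d₁ χ + d₂ χ) ^ 2 * d₁ χ : ℚ) / (n χ : ℚ) : ℚ) +
          w * (((d₀ χ + d₁ χ + d₂ χ) ^ 2 * d₂ χ : ℚ) / (n χ : ℚ) : ℚ) := by
    intro χ
    by_cases hχ : χ ∈ principalBlock M G
    · rw [hvalt χ hχ, hf, conj_form, hn]
      push_cast
      ring
    · obtain ⟨e0, e1, e2⟩ := hnotB χ hχ
      rw [hf, e0, e1, e2]
      simp
  simp_rw [hterm] at F0
  rw [Finset.sum_add_distrib, Finset.sum_add_distrib, ← Finset.mul_sum, ← Finset.mul_sum] at F0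
  set S0 : ℚ := ∑ χ : IrrCharacter G, (((d₀ χ + d₁ χ + d₂ χ) ^ 2 * d₀ χ : ℚ) / (n χ : ℚ)) with hS0
  set S1 : ℚ := ∑ χ : IrrCharacter G, (((d₀ χ + d₁ χ + d₂ χ) ^ 2 * d₁ χ : ℚ) / (n χ : ℚ)) with hS1
  set S2 : ℚ := ∑ χ : IrrCharacter G, (((d₀ χ + d₁ χ + d₂ χ) ^ 2 * d₂ χ : ℚ) / (n χ : ℚ)) with hS2
  have F1 : (S0 : ℂ) + w ^ 2 * (S1 : ℂ) + w * (S2 : ℂ) = 0 := by
    rw [hS0, hS1, hS2, Rat.cast_sum, Rat.cast_sum, Rat.cast_sum]
    exact F0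
  have F2 : (((S0 - S1 : ℚ)) : ℂ) + ((S2 - S1 : ℚ) : ℂ) * w = 0 := by
    push_cast
    linear_combination F1 - (S1 : ℂ) * hwsq
  obtain ⟨f1, f2⟩ := rat_zero F2
  have hform : ∑ i : IrrCharacter G, ((d₀ i + d₁ i + d₂ i) ^ 2 * (2 * d₀ i - d₁ i - d₂ i) : ℚ) / (n i : ℚ) = 0 := by
    have e : ∑ i : IrrCharacter G, ((d₀ i + d₁ i + d₂ i) ^ 2 * (2 * d₀ i - d₁ i - d₂ i) : ℚ) / (n i : ℚ) =
        2 * S0 - S1 - S2 := by
      rw [hS0, hS1, hS2, Finset.mul_sum, ← Finset.sum_sub_distrib, ← Finset.sum_sub_distrib]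
      refine Finset.sum_congr rfl fun i _ => ?_
      ring
    rw [e]
    linarith
  have hcong : ∀ χ : IrrCharacter G, (d₀ χ ≠ 0 ∨ d₁ χ ≠ 0 ∨ d₂ χ ≠ 0) →
      ∃ k : ℕ, n χ + 7 * (d₀ χ + d₁ χ + d₂ χ) = 8 * k := by
    intro χ hne
    have hB : χ ∈ principalBlock M G := by
      by_contra h
      obtain ⟨a, b, c⟩ := hnotB χ h
      rcases hne with h' | h' | h' <;> contradiction
    obtain ⟨k, hk⟩ := Cfsg.Agent.Lib.Nine.Basic.exists_nat_sum_subgroup S (isCharacter_of_isIrrCharacter χ.2)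
    have hval : ∀ h : S, h ≠ 1 → (χ : G → ℂ) h = (χ : G → ℂ) t := by
      intro h hh
      have h2 : (h : G) ≠ 1 := fun h3 => hh (Subtype.ext h3)
      exact isClassFunction_iff_isConj.mp (isClassFunction_of_isIrrCharacter χ.2) _ _ (hSconj h h.2 h2)
    have hsum : ∑ h : S, (χ : G → ℂ) h = (χ : G → ℂ) 1 + 7 * (χ : G → ℂ) t := by
      rw [← Finset.add_sum_erase Finset.univ (fun h : S => (χ : G → ℂ) h) (Finset.mem_univ 1)]
      congr 1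
      rw [Finset.sum_congr rfl (g := fun _ => (χ : G → ℂ) t)
        (fun h hh => hval h (Finset.ne_of_mem_erase hh))]
      rw [Finset.sum_const, Finset.card_erase_of_mem (Finset.mem_univ _), Finset.card_univ,
        ← Nat.card_eq_fintype_card, hS8]
      simp
    refine ⟨k, ?_⟩
    have h3 : ((n χ + 7 * (d₀ χ + d₁ χ + d₂ χ) : ℤ) : ℂ) = ((8 * k : ℤ) : ℂ) := by
      push_cast
      rw [← hn, ← hvalt χ hB, ← hsum, hk, hS8]
      push_cast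
      rfl
    exact_mod_cast h3
  have hData : Cfsg.Agent.Lib.E8Aut.Lattice.Data conjIrr (oneI G) d₀ d₁ d₂ n :=
    { hτ := conjIrr_conjIrr
      pos := hnpos
      h00 := r00
      h11 := r11
      h22 := r22
      h01 := r01
      h02 := r02
      h12 := r12
      o0 := ho.1
      o1 := ho.2.1
      o2 := ho.2.2
      no := hno
      τ0 := fun i => (hτ i).1
      τ1 := fun i => (hτ i).2.1
      τ2 := fun i => (hτ i).2.2
      τn := hτn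
      deg0 := hq.1
      deg1 := hq.2.1
      form := hform
      cong := hcong }
  obtain ⟨χ, hχ1, hχ2⟩ := hData.main
  refine ⟨χ, ?_, fun h => hχ2 ?_⟩
  · rw [hn, hχ1]
    simp
  · rw [h]
    exact ho

end Cfsg.Agent.Lib.E8Aut.CharMain
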