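import Mathlib

/-!
# The structure of `2 × A₄` from its action on an elementary abelian normal Sylow subgroup

`Q` a finite group with a normal self-centralizing elementary abelian Sylow `2`-subgroup `T` of order
`8`, a central involution `t ∈ T`, and `T ≠ Q`: then `|Q| = 24`, and `Q` has an element `f` of order
`3` with centralizer of order `6`, not conjugate to its inverse.
-/

set_option autoImplicit false
set_option linter.unusedSectionVars false
set_option linter.style.haveILetI false

namespace Cfsg.Agent.Lib.E8Aut.QStruct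

open Subgroup

universe u

variable {Q : Type u} [Group Q] [Finite Q]

/-- The hypotheses. -/
structure Hyp (T : Subgroup Q) (t : Q) : Prop where
  normal : T.Normal
  card8 : Nat.card T = 8
  sq : ∀ a ∈ T, a * a = 1
  odd : Odd T.index
  cent : centralizer (T : Set Q) ≤ T
  tT : t ∈ T
  tC : ∀ x : Q, x * t = t * x
  t1 : t ≠ 1

variable {T : Subgroup Q} {t : Q} (h : Hyp T t)
include h

theorem comm_T {a b : Q} (ha : a ∈ T) (hb : b ∈ T) : a * b = b * a := by
  have h2 := h.sq a ha
  have h3 := h.sq b hb
  calc a * b = a * b * (b * a * (b * a)) := by rw [h.sq _ (T.mul_mem hb ha), mul_one]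
    _ = a * (b * b) * a * (b * a) := by group
    _ = b * a := by rw [h3, mul_one, h2, one_mul]

theorem mem_of_sq_mem {x : Q} (hx : x * x ∈ T) : x ∈ T := by
  haveI := h.normal
  obtain ⟨k, hk⟩ := h.odd
  have h1 : x ^ T.index ∈ T := Subgroup.pow_index_mem T x
  rw [hk, pow_succ, pow_mul] at h1
  have h2 : (x ^ 2) ^ k ∈ T := T.pow_mem (by rw [pow_two]; exact hx) k
  have := T.mul_mem (T.inv_mem h2) h1
  simpa using this

/-- **Key claim**: the centralizer of an element of `T` outside `⟨t⟩` lies in `T`. -/
theorem mem_of_comm {a x : Q} (ha : a ∈ T) (ha1 : a ≠ 1) (hat : a ≠ t) (hx : x * a = a * x) : x ∈ T := by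
  classical
  haveI := h.normal
  set U : Subgroup Q := centralizer ({x} : Set Q) ⊓ T with hU
  have hmemU : ∀ {s : Q}, s ∈ U ↔ x * s = s * x ∧ s ∈ T := by
    intro s
    rw [hU, Subgroup.mem_inf, Subgroup.mem_centralizer_singleton_iff]
    exact ⟨fun ⟨h1, h2⟩ => ⟨h1.symm, h2⟩, fun ⟨h1, h2⟩ => ⟨h1.symm, h2⟩⟩
  have hle : U ≤ T := inf_le_right
  have hto : t ∈ U := hmemU.mpr ⟨h.tC x, h.tT⟩
  have hao : a ∈ U := hmemU.mpr ⟨hx, ha⟩
  -- four elements
  have h4 : 4 ≤ Nat.card U := by
    have hsub : (({1, t, a, t * a} : Finset Q) : Set Q) ⊆ (U : Set Q) := by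
      intro s hs
      simp only [Finset.coe_insert, Finset.coe_singleton, Set.mem_insert_iff, Set.mem_singleton_iff] at hs
      rcases hs with rfl | rfl | rfl | rfl
      · exact U.one_mem
      · exact hto
      · exact hao
      · exact U.mul_mem hto hao
    have hcard : ({1, t, a, t * a} : Finset Q).card = 4 := by
      have hta : t * a ≠ t := fun h' => ha1 (mul_left_cancel (a := t) (by rw [h', mul_one]))
      have hta2 : t * a ≠ a := fun h' => h.t1 (mul_right_cancel (b := a) (by rw [h', one_mul]))
      have hta3 : t * a ≠ 1 := by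
        intro h'
        apply hat
        have h6 : t * t = 1 := h.sq t h.tT
        calc a = t * t * a := by rw [h6, one_mul]
          _ = t * (t * a) := by group
          _ = t := by rw [h', mul_one]
      rw [Finset.card_insert_of_notMem, Finset.card_insert_of_notMem, Finset.card_insert_of_notMem,
        Finset.card_singleton]
      · simp only [Finset.mem_singleton]
        exact fun h' => hta2 h'.symm
      · simp only [Finset.mem_insert, Finset.mem_singleton, not_or]
        exact ⟨fun h' => hat h'.symm, fun h' => hta h'.symm⟩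
      · simp only [Finset.mem_insert, Finset.mem_singleton, not_or]
        exact ⟨fun h' => h.t1 h'.symm, fun h' => ha1 h'.symm, fun h' => hta3 h'.symm⟩
    have := Set.ncard_le_ncard hsub (Set.toFinite _)
    rw [Set.ncard_coe_finset, hcard] at this
    rwa [← Nat.card_coe_set_eq] at this
  by_cases hUT : U = T
  · -- then `x` centralizes `T`
    apply h.cent
    rw [Subgroup.mem_centralizer_iff]
    intro s hs
    have : s ∈ U := by rw [hUT]; exact hs
    exact ((hmemU.mp this).1).symm
  · -- `U` has index two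
    have hcU : Nat.card U = 4 := by
      have h1 : Nat.card U ∣ 8 := by
        rw [← h.card8]
        exact Subgroup.card_dvd_of_le hle
      have h2 : Nat.card U ≤ 8 := Nat.le_of_dvd (by norm_num) h1
      have h3 : Nat.card U ≠ 8 := fun h' =>
        hUT (Subgroup.eq_of_le_of_card_ge hle (by rw [h.card8, h']))
      interval_cases hk : Nat.card U <;> first | rfl | omega
    have hidx : (U.subgroupOf T).index = 2 := by
      have h1 : Nat.card (U.subgroupOf T) = 4 := by
        rw [← hcU]
        exact Nat.card_congr (Subgroup.subgroupOfEquivOfLe hle).toEquiv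
      have h2 := Subgroup.card_mul_index (U.subgroupOf T)
      rw [h1, h.card8] at h2
      omega
    obtain ⟨b, hbT, hbU⟩ : ∃ b ∈ T, b ∉ U := by
      by_contra hcon
      push Not at hcon
      exact hUT (le_antisymm hle hcon)
    have hconj : x * b * x⁻¹ ∈ T := h.normal.conj_mem b hbT x
    have hconjU : x * b * x⁻¹ ∉ U := by
      intro hc
      apply hbU
      have h1 := (hmemU.mp hc).1
      refine hmemU.mpr ⟨?_, hbT⟩
      have h2 : x * (x * b * x⁻¹) = x * b := by
        rw [h1]
        group
      have h3 : x * b * x⁻¹ = b := mul_left_cancel h2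
      exact mul_inv_eq_iff_eq_mul.mp h3
    -- the product lies in `U`
    set y := x * b * x⁻¹ with hy
    have hu : b * y ∈ U := by
      have h1 := (Subgroup.mul_mem_iff_of_index_two (H := U.subgroupOf T) (a := ⟨b, hbT⟩)
        (b := ⟨y, hconj⟩) hidx).mpr (by
          simp only [Subgroup.mem_subgroupOf]
          exact ⟨fun h' => absurd h' hbU, fun h' => absurd h' hconjU⟩)
      rw [Subgroup.mem_subgroupOf] at h1
      exact h1
    set u := b * y with hudef
    have huT : u ∈ T := hle hu
    have hyu : y = b * u := by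
      rw [hudef, ← mul_assoc, h.sq b hbT, one_mul]
    have hxu : x * u * x⁻¹ = u := by
      have := (hmemU.mp hu).1
      rw [this]
      group
    have hsq : (x * x) * b * (x * x)⁻¹ = b := by
      calc (x * x) * b * (x * x)⁻¹ = x * y * x⁻¹ := by rw [hy]; group
        _ = x * (b * u) * x⁻¹ := by rw [← hyu]
        _ = (x * b * x⁻¹) * (x * u * x⁻¹) := by group
        _ = (b * u) * u := by rw [hxu, ← hy, hyu]
        _ = b * (u * u) := by group
        _ = b := by rw [h.sq u huT, mul_one]
    set U₂ : Subgroup Q := centralizer ({x * x} : Set Q) ⊓ T with hU₂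
    have hmemU₂ : ∀ {s : Q}, s ∈ U₂ ↔ (x * x) * s = s * (x * x) ∧ s ∈ T := by
      intro s
      rw [hU₂, Subgroup.mem_inf, Subgroup.mem_centralizer_singleton_iff]
      exact ⟨fun ⟨h1, h2⟩ => ⟨h1.symm, h2⟩, fun ⟨h1, h2⟩ => ⟨h1.symm, h2⟩⟩
    have hUU₂ : U ≤ U₂ := by
      intro s hs
      obtain ⟨h1, h2⟩ := hmemU.mp hs
      refine hmemU₂.mpr ⟨?_, h2⟩
      calc x * x * s = x * (x * s) := by group
        _ = x * (s * x) := by rw [h1]
        _ = (x * s) * x := by group
        _ = s * x * x := by rw [h1]
        _ = s * (x * x) := by group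
    have hbU₂ : b ∈ U₂ := by
      refine hmemU₂.mpr ⟨?_, hbT⟩
      have := hsq
      rw [mul_inv_eq_iff_eq_mul] at this
      exact this
    have hU₂T : U₂ = T := by
      have hle2 : U₂ ≤ T := inf_le_right
      have h1 : Nat.card U₂ ∣ 8 := by
        rw [← h.card8]
        exact Subgroup.card_dvd_of_le hle2
      have h2 : Nat.card U₂ ≤ 8 := Nat.le_of_dvd (by norm_num) h1
      have h3 : 4 < Nat.card U₂ := by
        by_contra hcon
        have hUeq : U = U₂ := Subgroup.eq_of_le_of_card_ge hUU₂ (by omega)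
        exact hbU (by rw [hUeq]; exact hbU₂)
      have h5 : Nat.card U₂ = 8 := by
        interval_cases hk : Nat.card U₂ <;> first | rfl | omega
      exact Subgroup.eq_of_le_of_card_ge hle2 (by rw [h.card8, h5])
    apply mem_of_sq_mem h
    apply h.cent
    rw [Subgroup.mem_centralizer_iff]
    intro s hs
    have : s ∈ U₂ := by rw [hU₂T]; exact hs
    exact ((hmemU₂.mp this).1).symm

/-- An element of `T` off `⟨t⟩`. -/
theorem exists_off : ∃ a ∈ T, a ≠ 1 ∧ a ≠ t := by
  by_contra hcon
  push Not at hcon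
  have hsub : (T : Set Q) ⊆ ({1, t} : Set Q) := by
    intro s hs
    by_cases hs1 : s = 1
    · left; exact hs1
    · right; exact hcon s hs hs1
  have h1 := Set.ncard_le_ncard hsub (Set.toFinite _)
  rw [← Nat.card_coe_set_eq] at h1
  have h2 : Set.ncard ({1, t} : Set Q) ≤ 2 := by
    have := Set.ncard_insert_le (1 : Q) ({t} : Set Q)
    rwa [Set.ncard_singleton] at this
  have h3 := h.card8
  change Nat.card (T : Set Q) = 8 at h3
  omega

theorem centralizer_eq {a : Q} (ha : a ∈ T) (ha1 : a ≠ 1) (hat : a ≠ t) {x y : Q}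
    (hxy : x * a * x⁻¹ = y * a * y⁻¹) : x⁻¹ * y ∈ T := by
  apply mem_of_comm h ha ha1 hat
  have : x * (y⁻¹ * a * y) * x⁻¹ = a → True := fun _ => trivial
  have h1 : y * a = x * a * x⁻¹ * y := by
    rw [hxy]
    group
  calc x⁻¹ * y * a = x⁻¹ * (y * a) := by group
    _ = x⁻¹ * (x * a * x⁻¹ * y) := by rw [h1]
    _ = a * (x⁻¹ * y) := by group

/-- **The index**. -/
theorem index_eq_three {g : Q} (hg : g ∉ T) : T.index = 3 := by
  classical
  haveI := h.normal
  obtain ⟨a, ha, ha1, hat⟩ := exists_off h
  -- the map `c ↦ conjugate of a`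
  let φ : Q ⧸ T → Q := fun c => c.out * a * c.out⁻¹
  have hφT : ∀ c, φ c ∈ T := fun c => h.normal.conj_mem a ha _
  have hφinj : ∀ c c', φ c = φ c' → c = c' := by
    intro c c' hcc
    have h1 := centralizer_eq h ha ha1 hat hcc
    rw [← QuotientGroup.out_eq' c, ← QuotientGroup.out_eq' c']
    exact QuotientGroup.eq.mpr h1
  have hφ1 : ∀ c, φ c ≠ 1 := by
    intro c hc
    apply ha1
    have : c.out * a * c.out⁻¹ = 1 := hc
    have h2 := congrArg (fun z => c.out⁻¹ * z * c.out) this
    simpa [mul_assoc] using h2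
  have hφt : ∀ c, φ c ≠ t := by
    intro c hc
    apply hat
    have : c.out * a * c.out⁻¹ = t := hc
    have h2 : c.out * a = c.out * t := by
      calc c.out * a = (c.out * a * c.out⁻¹) * c.out := by group
        _ = t * c.out := by rw [this]
        _ = c.out * t := (h.tC c.out).symm
    exact mul_left_cancel h2
  have hφtt : ∀ c c', φ c ≠ φ c' * t := by
    intro c c' hc
    -- conjugating `a` to `a t`
    set z := c'.out⁻¹ * c.out with hz
    have h1 : z * a * z⁻¹ = a * t := by
      have e : c.out * a * c.out⁻¹ = c'.out * a * c'.out⁻¹ * t := hc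
      calc z * a * z⁻¹ = c'.out⁻¹ * (c.out * a * c.out⁻¹) * c'.out := by rw [hz]; group
        _ = c'.out⁻¹ * (c'.out * a * c'.out⁻¹ * t) * c'.out := by rw [e]
        _ = a * (c'.out⁻¹ * t * c'.out) := by group
        _ = a * t := by
          have e2 : c'.out⁻¹ * t * c'.out = t := by
            rw [mul_assoc, ← h.tC c'.out]
            group
          rw [e2]
    have h2 : (z * z) * a * (z * z)⁻¹ = a := by
      calc (z * z) * a * (z * z)⁻¹ = z * (z * a * z⁻¹) * z⁻¹ := by group
        _ = z * (a * t) * z⁻¹ := by rw [h1]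
        _ = (z * a * z⁻¹) * (z * t * z⁻¹) := by group
        _ = (a * t) * t := by
          rw [h1, h.tC z]
          group
        _ = a * (t * t) := by group
        _ = a := by rw [h.sq t h.tT, mul_one]
    have h3 : z * z ∈ T := mem_of_comm h ha ha1 hat (mul_inv_eq_iff_eq_mul.mp h2)
    have h4 : z ∈ T := mem_of_sq_mem h h3
    have h5 : z * a * z⁻¹ = a := by
      rw [comm_T h h4 ha]
      group
    rw [h5] at h1
    apply h.t1
    have : a * 1 = a * t := by rw [mul_one]; exact h1
    exact (mul_left_cancel this).symm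
  -- the count
  let F : ((Q ⧸ T) × Bool) ⊕ Bool → T := fun w => match w with
    | Sum.inl (c, false) => ⟨φ c, hφT c⟩
    | Sum.inl (c, true) => ⟨φ c * t, T.mul_mem (hφT c) h.tT⟩
    | Sum.inr false => 1
    | Sum.inr true => ⟨t, h.tT⟩
  have hFinj : Function.Injective F := by
    have hsq : t * t = 1 := h.sq t h.tT
    have h1t : ∀ c, φ c * t ≠ 1 := fun c hc => hφt c (by
      calc φ c = φ c * (t * t) := by rw [hsq, mul_one]
        _ = φ c * t * t := by group
        _ = t := by rw [hc, one_mul])
    have htt : ∀ c, φ c * t ≠ t := fun c hc => hφ1 c (mul_right_cancel (b := t) (by rw [hc, one_mul]))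
    rintro (⟨c, _ | _⟩ | _ | _) (⟨c', _ | _⟩ | _ | _) hw <;>
      simp only [F, Subtype.ext_iff, Subgroup.coe_one] at hw
    · rw [hφinj c c' hw]
    · exact absurd hw (hφtt c c')
    · exact absurd hw (hφ1 c)
    · exact absurd hw (hφt c)
    · exact absurd hw.symm (hφtt c' c)
    · rw [hφinj c c' (mul_right_cancel hw)]
    · exact absurd hw (h1t c)
    · exact absurd hw (htt c)
    · exact absurd hw.symm (hφ1 c')
    · exact absurd hw.symm (h1t c')
    · rfl
    · exact absurd hw.symm h.t1
    · exact absurd hw.symm (hφt c')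
    · exact absurd hw.symm (htt c')
    · exact absurd hw h.t1
    · rfl
  have hle := Nat.card_le_card_of_injective F hFinj
  rw [h.card8, Nat.card_sum, Nat.card_prod] at hle
  simp only [Nat.card_eq_fintype_card, Fintype.card_bool] at hle
  have hidx : T.index = Nat.card (Q ⧸ T) := rfl
  have hne1 : T.index ≠ 1 := by
    intro h1
    exact hg (Subgroup.index_eq_one.mp h1 ▸ Subgroup.mem_top g)
  obtain ⟨k, hk⟩ := h.odd
  rw [← hidx] at hle
  omega

theorem exists_f {g : Q} (hg : g ∉ T) :
    ∃ f : Q, f ^ 3 = 1 ∧ f ≠ 1 ∧ Nat.card Q = 24 ∧ Nat.card (centralizer ({f} : Set Q)) = 6 ∧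
      ∀ x : Q, x * f * x⁻¹ ≠ f⁻¹ := by
  classical
  haveI := h.normal
  have hidx := index_eq_three h hg
  have hcardQ : Nat.card Q = 24 := by
    have := Subgroup.card_mul_index T
    rw [h.card8, hidx] at this
    omega
  have hg3 : g ^ 3 ∈ T := by
    have := Subgroup.pow_index_mem T g
    rwa [hidx] at this
  have hg6 : (g ^ 3) * (g ^ 3) = 1 := h.sq _ hg3
  set f := g ^ 4 with hf
  have hf3 : f ^ 3 = 1 := by
    rw [hf, ← pow_mul]
    have : g ^ (4 * 3) = (g ^ 3 * g ^ 3) * (g ^ 3 * g ^ 3) := by group
    rw [this, hg6, one_mul]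
  have hfT : f ∉ T := by
    intro hfm
    apply hg
    have h1 : g = (g ^ 3)⁻¹ * f := by
      rw [hf]
      group
    rw [h1]
    exact T.mul_mem (T.inv_mem hg3) hfm
  have hf1 : f ≠ 1 := fun h1 => hfT (h1 ▸ T.one_mem)
  refine ⟨f, hf3, hf1, hcardQ, ?_, ?_⟩
  · -- the centralizer
    set C := centralizer ({f} : Set Q) with hC
    have hmemC : ∀ {s : Q}, s ∈ C ↔ f * s = s * f := by
      intro s
      rw [hC, Subgroup.mem_centralizer_singleton_iff]
      exact ⟨fun h1 => h1.symm, fun h1 => h1.symm⟩
    have hfC : f ∈ C := hmemC.mpr rfl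
    have hinf : (((T ⊓ C : Subgroup Q) : Set Q)) = {1, t} := by
      ext s
      constructor
      · rintro ⟨hsT, hsC⟩
        by_cases hs1 : s = 1
        · left; exact hs1
        · by_cases hst : s = t
          · right; exact hst
          · exact absurd (mem_of_comm h hsT hs1 hst (hmemC.mp hsC)) hfT
      · rintro (rfl | rfl)
        · exact (T ⊓ C).one_mem
        · exact ⟨h.tT, hmemC.mpr (h.tC f)⟩
    have hc2 : Nat.card (T ⊓ C : Subgroup Q) = 2 := by
      have e : Nat.card (T ⊓ C : Subgroup Q) = Set.ncard ((T ⊓ C : Subgroup Q) : Set Q) :=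
        Nat.card_coe_set_eq _
      rw [e, hinf, Set.ncard_pair (Ne.symm h.t1)]
    have hc3 : Nat.card (T.subgroupOf C) = 2 := by
      rw [← hc2, ← Subgroup.inf_subgroupOf_right]
      exact Nat.card_congr (Subgroup.subgroupOfEquivOfLe inf_le_right).toEquiv
    have hsup : T.relIndex (C ⊔ T) = 3 := by
      have h1 := Subgroup.relIndex_mul_index (H := T) (K := C ⊔ T) le_sup_right
      rw [hidx] at h1
      have h2 : T.relIndex (C ⊔ T) ∣ 3 := ⟨_, h1.symm⟩
      rcases (Nat.dvd_prime Nat.prime_three).mp h2 with h3 | h3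
      · exfalso
        apply hfT
        exact (Subgroup.relIndex_eq_one.mp h3) (Subgroup.mem_sup_left hfC)
      · exact h3
    have hrel : (T.subgroupOf C).index = 3 := by
      have h1 : T.relIndex C = 3 := by
        rw [← Subgroup.relIndex_sup_right]
        exact hsup
      exact h1
    have h3 := Subgroup.card_mul_index (T.subgroupOf C)
    rw [hc3, hrel] at h3
    exact h3.symm
  · -- not real
    intro x hx
    haveI : IsCyclic (Q ⧸ T) := isCyclic_of_prime_card (p := 3) hidx
    letI : CommGroup (Q ⧸ T) := IsCyclic.commGroup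
    have h1 : ((x * f * x⁻¹ : Q) : Q ⧸ T) = (f : Q ⧸ T) := by
      rw [QuotientGroup.mk_mul, QuotientGroup.mk_mul, QuotientGroup.mk_inv]
      exact mul_inv_cancel_comm _ _
    rw [hx, QuotientGroup.mk_inv] at h1
    have h2 : ((f * f : Q) : Q ⧸ T) = 1 := by
      rw [QuotientGroup.mk_mul]
      nth_rewrite 1 [← h1]
      exact inv_mul_cancel _
    have h3 : f * f ∈ T := (QuotientGroup.eq_one_iff _).mp h2
    apply hfT
    have h4 : f = f ^ 3 * (f * f)⁻¹ := by group
    rw [h4, hf3, one_mul]
    exact T.inv_mem h3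

end Cfsg.Agent.Lib.E8Aut.QStruct
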