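import Mathlib
import Cfsg.Agent.Lib.Core.Basic
import Cfsg.Agent.Lib.Core.PSolvable
import Cfsg.Agent.Lib.Core.PSolvable2
import Cfsg.Agent.Lib.E8Aut.QStruct

/-!
# Local structure: a solvable centralizer with an elementary abelian Sylow subgroup of order `8`

`H` solvable with a central involution `t`, a Sylow `2`-subgroup `S` elementary abelian of order `8`,
and an element normalizing but not centralizing `S`: then `H / O(H)` has order `24` and an element
`f` of order `3` with centralizer of order `6`, not conjugate to its inverse.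
-/

set_option autoImplicit false
set_option linter.unusedSectionVars false
set_option linter.style.haveILetI false

namespace Cfsg.Agent.Lib.E8Aut.Local

open Subgroup Cfsg Cfsg.Agent.Lib.Core.Basic Cfsg.Agent.Lib.Core.PSolvable

universe u

variable {H : Type u} [Group H] [Finite H]

theorem local_data (hsolv : Group.IsSolvable H) {t : H} (htc : ∀ x : H, x * t = t * x) (ht1 : t ≠ 1)
    (S : Sylow 2 H) (htS : t ∈ S) (hsq : ∀ a ∈ (S : Subgroup H), a * a = 1)
    (h8 : Nat.card (S : Subgroup H) = 8) {f₀ : H}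
    (hf₀ : f₀ ∈ normalizer ((S : Subgroup H) : Set H))
    (hf₀' : f₀ ∉ centralizer ((S : Subgroup H) : Set H)) :
    ∃ f : H, ((f : H ⧸ pPrimeCore 2 H)) ^ 3 = 1 ∧ (f : H ⧸ pPrimeCore 2 H) ≠ 1 ∧
      Nat.card (H ⧸ pPrimeCore 2 H) = 24 ∧
      Nat.card (centralizer ({(f : H ⧸ pPrimeCore 2 H)} : Set (H ⧸ pPrimeCore 2 H))) = 6 ∧
      ∀ x : H ⧸ pPrimeCore 2 H, x * (f : H ⧸ pPrimeCore 2 H) * x⁻¹ ≠ (f : H ⧸ pPrimeCore 2 H)⁻¹ := by
  classical
  set D := pPrimeCore 2 H with hD
  haveI hDn : D.Normal := Cfsg.pPrimeCore_normal 2 H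
  let π : H →* H ⧸ D := QuotientGroup.mk' D
  have hπs : Function.Surjective π := QuotientGroup.mk'_surjective D
  have hker : π.ker = D := QuotientGroup.ker_mk' D
  have hπD : ∀ {x : H}, π x = 1 ↔ x ∈ D := by
    intro x
    rw [← MonoidHom.mem_ker, hker]
  have hcop : (Nat.card D).Coprime 2 := pPrimeCore_coprime
  have hinfD : (S : Subgroup H) ⊓ D = ⊥ :=
    inf_eq_bot_of_isPGroup_of_coprime S.isPGroup' hcop
  have hSD : ∀ {x : H}, x ∈ (S : Subgroup H) → x ∈ D → x = 1 := by
    intro x h1 h2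
    have : x ∈ (S : Subgroup H) ⊓ D := ⟨h1, h2⟩
    rwa [hinfD, Subgroup.mem_bot] at this
  -- the image of `S`
  let P : Sylow 2 (H ⧸ D) := S.mapSurjective hπs
  have hPc : (P : Subgroup (H ⧸ D)) = (S : Subgroup H).map π := Sylow.coe_mapSurjective hπs S
  set T : Subgroup (H ⧸ D) := P.toSubgroup with hT
  have hTsq : ∀ a ∈ T, a * a = 1 := by
    intro a ha
    rw [hPc] at ha
    obtain ⟨b, hb, rfl⟩ := ha
    rw [← map_mul, hsq b hb, map_one]
  have hinj : Function.Injective (π.comp (S : Subgroup H).subtype) := by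
    rw [injective_iff_map_eq_one]
    intro a ha
    apply Subtype.ext
    exact hSD a.2 (hπD.mp ha)
  have hT8 : Nat.card T = 8 := by
    have hr : (S : Subgroup H).map π = (π.comp (S : Subgroup H).subtype).range := by
      rw [MonoidHom.range_comp, Subgroup.range_subtype]
    rw [← h8, hPc, hr]
    exact (Nat.card_congr (MonoidHom.ofInjective hinj).toEquiv).symm
  have hTcomm : ∀ {a b : H ⧸ D}, a ∈ T → b ∈ T → a * b = b * a := by
    intro a b ha hb
    have h2 := hTsq a ha
    have h3 := hTsq b hb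
    calc a * b = a * b * (b * a * (b * a)) := by rw [hTsq _ (T.mul_mem hb ha), mul_one]
      _ = a * (b * b) * a * (b * a) := by group
      _ = b * a := by rw [h3, mul_one, h2, one_mul]
  -- `T` is `O₂`
  haveI : Group.IsSolvable (H ⧸ D) := inferInstance
  have hps : IsPSolvable 2 (H ⧸ D) := Cfsg.Agent.Lib.Core.PSolvable2.isPSolvable_of_isSolvable
  have hbot : pPrimeCore 2 (H ⧸ D) = ⊥ := pPrimeCore_quotient_eq_bot
  have hcc := centralizer_pCore_le_of_isPSolvable hps hbot
  have hcoreT : pCore 2 (H ⧸ D) ≤ T := pCore_le_sylow P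
  have hTcore : T ≤ pCore 2 (H ⧸ D) := by
    intro a ha
    apply hcc
    rw [Subgroup.mem_centralizer_iff]
    intro b hb
    exact hTcomm (hcoreT hb) ha
  have hTeq : T = pCore 2 (H ⧸ D) := le_antisymm hTcore hcoreT
  have hyp : QStruct.Hyp T (t : H ⧸ D) := by
    refine ⟨?_, hT8, hTsq, ?_, ?_, ?_, ?_, ?_⟩
    · rw [hTeq]
      exact Cfsg.pCore_normal 2 _
    · have h1 : ¬ 2 ∣ T.index := P.not_dvd_index
      exact Nat.odd_iff.mpr (by omega)
    · rw [hTeq]
      exact hcc
    · rw [hPc]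
      exact ⟨t, htS, rfl⟩
    · intro x
      obtain ⟨y, rfl⟩ := hπs x
      change π y * π t = π t * π y
      rw [← map_mul, ← map_mul, htc]
    · intro h1
      exact ht1 (hSD htS (hπD.mp h1))
  have hg : π f₀ ∉ T := by
    intro hm
    apply hf₀'
    rw [Subgroup.mem_centralizer_iff]
    intro s hs
    have h1 : f₀ * s * f₀⁻¹ ∈ (S : Subgroup H) := (Subgroup.mem_normalizer_iff.mp hf₀ s).mp hs
    have h2 : f₀ * s * f₀⁻¹ * s⁻¹ ∈ (S : Subgroup H) :=
      Subgroup.mul_mem _ h1 (Subgroup.inv_mem _ hs)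
    have h3 : f₀ * s * f₀⁻¹ * s⁻¹ ∈ D := by
      rw [← hπD]
      simp only [map_mul, map_inv]
      have hsT : π s ∈ T := by
        rw [hPc]
        exact ⟨s, hs, rfl⟩
      rw [hTcomm hm hsT]
      group
    have h4 := hSD h2 h3
    have h5 : f₀ * s * f₀⁻¹ = s := by
      rw [mul_inv_eq_one] at h4
      exact h4
    rw [mul_inv_eq_iff_eq_mul] at h5
    exact h5.symm
  obtain ⟨f, hf3, hf1, hQ, hCf, hinv⟩ := QStruct.exists_f hyp hg
  obtain ⟨f', rfl⟩ := QuotientGroup.mk_surjective f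
  exact ⟨f', hf3, hf1, hQ, hCf, hinv⟩

end Cfsg.Agent.Lib.E8Aut.Local
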