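import Mathlib
import Cfsg.Agent.Lib.E8Aut.CharMain
import Cfsg.Agent.Lib.E8Aut.Local
import Cfsg.Agent.Lib.ZStar.AbelianSylow
import Cfsg.Agent.Lib.Char.Linear
import Cfsg.Agent.Lib.BlockH.Basic

/-!
# The global assembly

A non-abelian finite simple group with an elementary abelian Sylow `2`-subgroup of order `8` and
solvable involution centralizers has `|N(S) : C(S)| = 7`.
-/

set_option autoImplicit false
set_option linter.unusedSectionVars false
set_option linter.style.haveILetI false

namespace Cfsg.Agent.Lib.E8Aut.Global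

open Cfsg Subgroup

universe u

/-- A group action on seven points whose orbits are all of odd size different from one is transitive. -/
theorem transitive_of_odd_orbits {K X : Type*} [Group K] [MulAction K X] [Finite X]
    (hX : Nat.card X = 7) (hodd : ∀ x : X, Odd (MulAction.orbit K x).ncard)
    (hne : ∀ x : X, (MulAction.orbit K x).ncard ≠ 1) (x y : X) : y ∈ MulAction.orbit K x := by
  classical
  have h3 : ∀ x : X, 3 ≤ (MulAction.orbit K x).ncard := by
    intro x
    obtain ⟨k, hk⟩ := hodd x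
    have := hne x
    omega
  have hdisj : ∀ a b : X, b ∉ MulAction.orbit K a →
      Disjoint (MulAction.orbit K a) (MulAction.orbit K b) := by
    intro a b hb
    rcases MulAction.orbit.eq_or_disjoint (G := K) a b with h | h
    · exact absurd (h ▸ MulAction.mem_orbit_self b) hb
    · exact h
  by_contra hxy
  have hd1 := hdisj x y hxy
  have huniv : ((Set.univ : Set X)).ncard = 7 := by rw [Set.ncard_univ, hX]
  have hfin : ∀ s : Set X, s.Finite := fun s => Set.toFinite s
  have hsum : ((MulAction.orbit K x) ∪ (MulAction.orbit K y)).ncard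
      = (MulAction.orbit K x).ncard + (MulAction.orbit K y).ncard :=
    Set.ncard_union_eq hd1 (hfin _) (hfin _)
  have hle : ((MulAction.orbit K x) ∪ (MulAction.orbit K y)).ncard ≤ 7 := by
    rw [← huniv]; exact Set.ncard_le_ncard (Set.subset_univ _) (hfin _)
  obtain ⟨a, ha⟩ := hodd x
  obtain ⟨b, hb⟩ := hodd y
  have hne7 : ((MulAction.orbit K x) ∪ (MulAction.orbit K y)).ncard ≠ 7 := by omega
  have hex : ∃ z : X, z ∉ (MulAction.orbit K x) ∪ (MulAction.orbit K y) := by
    by_contra hall
    push Not at hall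
    have : (MulAction.orbit K x) ∪ (MulAction.orbit K y) = Set.univ := Set.eq_univ_of_forall hall
    rw [this, huniv] at hne7
    exact hne7 rfl
  obtain ⟨z, hz⟩ := hex
  have hzx : z ∉ MulAction.orbit K x := fun h => hz (Or.inl h)
  have hzy : z ∉ MulAction.orbit K y := fun h => hz (Or.inr h)
  have hd2 := hdisj x z hzx
  have hd3 := hdisj y z hzy
  have hd4 : Disjoint ((MulAction.orbit K x) ∪ (MulAction.orbit K y)) (MulAction.orbit K z) :=
    Set.disjoint_union_left.mpr ⟨hd2, hd3⟩
  have hsum2 := Set.ncard_union_eq hd4 (hfin _) (hfin _)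
  have hle2 : (((MulAction.orbit K x) ∪ (MulAction.orbit K y)) ∪ (MulAction.orbit K z)).ncard ≤ 7 := by
    rw [← huniv]; exact Set.ncard_le_ncard (Set.subset_univ _) (hfin _)
  have h3x := h3 x
  have h3y := h3 y
  have h3z := h3 z
  omega

/-- The points: the nontrivial elements of `S`. -/
abbrev Pts {G : Type u} [Group G] (S : Subgroup G) : Type u := {s : G // s ∈ S ∧ s ≠ 1}

/-- The conjugation action of the normalizer on the nontrivial elements of `S`. -/
@[reducible] def ptsAct {G : Type u} [Group G] (S : Subgroup G) :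
    MulAction (normalizer (S : Set G)) (Pts S) where
  smul n s := ⟨(n : G) * s.1 * (n : G)⁻¹, (Subgroup.mem_normalizer_iff.mp n.2 s.1).mp s.2.1, by
    intro h
    apply s.2.2
    have : (n : G) * s.1 = (n : G) := by
      have := congrArg (· * (n : G)) h
      simpa using this
    simpa using this⟩
  one_smul s := by
    apply Subtype.ext
    show ((1 : normalizer (S : Set G)) : G) * s.1 * ((1 : normalizer (S : Set G)) : G)⁻¹ = s.1
    simp
  mul_smul a b s := by
    apply Subtype.ext
    show ((a * b : normalizer (S : Set G)) : G) * s.1 * ((a * b : normalizer (S : Set G)) : G)⁻¹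
      = (a : G) * ((b : G) * s.1 * (b : G)⁻¹) * (a : G)⁻¹
    simp only [Subgroup.coe_mul, mul_inv_rev]
    group

variable {G : Type u} [Group G] [Finite G]

/-- A nontrivial linear character contradicts simplicity. -/
theorem no_linear [Fintype G] [IsSimpleGroup G] (hG : ¬ IsMulCommutative G)
    [Fintype (IrrCharacter G)]
    (χ : IrrCharacter G) (h1 : (χ : G → ℂ) 1 = 1)
    (hne : χ ≠ Cfsg.Agent.Lib.Blocks.Third.oneI G) : False := by
  obtain ⟨lam, hlam⟩ := Cfsg.Agent.Lib.Char.Linear.exists_hom_of_deg_one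
    (Cfsg.Agent.Lib.Char.Basic.isCharacter_of_isIrrCharacter χ.2) h1
  rcases IsSimpleGroup.eq_bot_or_eq_top_of_normal lam.ker lam.normal_ker with h | h
  · apply hG
    have hinj : Function.Injective lam := (MonoidHom.ker_eq_bot_iff lam).mp h
    exact ⟨⟨fun a b => hinj (by rw [map_mul, map_mul, mul_comm])⟩⟩
  · apply hne
    apply Subtype.ext
    funext g
    have hg : lam g = 1 := by
      have : g ∈ lam.ker := by rw [h]; trivial
      exact this
    rw [hlam]
    simp [hg]

/-- An element of `N(S)` centralizing one point `t` of `S` centralizes `S`. -/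
theorem centralizes_of_fixes [IsSimpleGroup G] (hG : ¬ IsMulCommutative G) (S : Sylow 2 G)
    (hS : IsElementaryAbelian 2 (S : Subgroup G)) (hS8 : Nat.card (S : Subgroup G) = 8)
    (hC : ∀ t : G, orderOf t = 2 → Group.IsSolvable (centralizer ({t} : Set G)))
    {t : G} (htS : t ∈ (S : Subgroup G)) (ht1 : t ≠ 1)
    (hconj : ∀ s ∈ (S : Subgroup G), s ≠ 1 → IsConj s t)
    {n : G} (hn : n ∈ normalizer ((S : Subgroup G) : Set G)) (hnt : n * t * n⁻¹ = t) :
    n ∈ centralizer ((S : Subgroup G) : Set G) := by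
  classical
  haveI : Fact (Nat.Prime 2) := ⟨Nat.prime_two⟩
  by_contra hnc
  have hcomm : ∀ a ∈ (S : Subgroup G), ∀ b ∈ (S : Subgroup G), a * b = b * a := by
    intro a ha b hb
    have := hS.1.is_comm.comm (⟨a, ha⟩ : (S : Subgroup G)) ⟨b, hb⟩
    simpa using congrArg Subtype.val this
  have hsq : ∀ a ∈ (S : Subgroup G), a * a = 1 := by
    intro a ha
    have := hS.2 a ha
    rwa [pow_two] at this
  have htt : t * t = 1 := hsq t htS
  have hord : orderOf t = 2 := orderOf_eq_prime (by rw [pow_two]; exact htt) ht1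
  have hSH : (S : Subgroup G) ≤ Cfsg.Agent.Lib.E8Aut.Avg.Cn t := by
    intro a ha
    rw [Cfsg.Agent.Lib.E8Aut.Avg.mem_Cn]
    exact hcomm a ha t htS
  let T : Sylow 2 (Cfsg.Agent.Lib.E8Aut.Avg.Cn t) := S.subtype hSH
  have hTco : (T : Subgroup (Cfsg.Agent.Lib.E8Aut.Avg.Cn t)) =
      (S : Subgroup G).subgroupOf (Cfsg.Agent.Lib.E8Aut.Avg.Cn t) := Sylow.coe_subtype S hSH
  have hmemT : ∀ x : Cfsg.Agent.Lib.E8Aut.Avg.Cn t,
      x ∈ (T : Subgroup (Cfsg.Agent.Lib.E8Aut.Avg.Cn t)) ↔ (x : G) ∈ (S : Subgroup G) := by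
    intro x
    rw [hTco, Subgroup.mem_subgroupOf]
  let t' : Cfsg.Agent.Lib.E8Aut.Avg.Cn t := ⟨t, Cfsg.Agent.Lib.E8Aut.Avg.mem_Cn.mpr rfl⟩
  have hnC : n ∈ Cfsg.Agent.Lib.E8Aut.Avg.Cn t := by
    rw [Cfsg.Agent.Lib.E8Aut.Avg.mem_Cn]
    have := congrArg (· * n) hnt
    simpa using this
  let n' : Cfsg.Agent.Lib.E8Aut.Avg.Cn t := ⟨n, hnC⟩
  have hcardT : Nat.card (T : Subgroup (Cfsg.Agent.Lib.E8Aut.Avg.Cn t)) = 8 := by
    rw [hTco, Nat.card_congr (Subgroup.subgroupOfEquivOfLe hSH).toEquiv, hS8]
  obtain ⟨f, hf3, hf1, hQ, hCf, hinv⟩ := Cfsg.Agent.Lib.E8Aut.Local.local_data (hC t hord)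
    (t := t') (fun x => Subtype.ext (Cfsg.Agent.Lib.E8Aut.Avg.mem_Cn.mp x.2))
    (fun h => ht1 (congrArg Subtype.val h)) T ((hmemT t').mpr htS)
    (fun a ha => Subtype.ext (hsq _ ((hmemT a).mp ha))) hcardT (f₀ := n')
    (by
      rw [Subgroup.mem_normalizer_iff]
      intro h
      rw [hmemT, hmemT]
      exact (Subgroup.mem_normalizer_iff.mp hn) (h : G))
    (by
      intro hcen
      apply hnc
      rw [Subgroup.mem_centralizer_iff] at hcen ⊢
      intro a ha
      have := hcen ⟨a, hSH ha⟩ ((hmemT _).mpr ha)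
      exact congrArg Subtype.val this)
  letI : Fintype G := Fintype.ofFinite G
  letI : Fintype (Cfsg.Agent.Lib.E8Aut.Avg.Cn t) := Fintype.ofFinite _
  letI : Fintype (Cfsg.Agent.Lib.E8Aut.Avg.Dc t) := Fintype.ofFinite _
  letI : Fintype (Cfsg.Agent.Lib.E8Aut.Avg.Cn t ⧸ Cfsg.Agent.Lib.E8Aut.Avg.Dc t) := Fintype.ofFinite _
  letI : Fintype (IrrCharacter G) :=
    @Fintype.ofFinite _ (Cfsg.Agent.Lib.Char.Ortho.finite_irrCharacter)
  letI : Fintype (S : Subgroup G) := Fintype.ofFinite _
  obtain ⟨M, hM⟩ := Cfsg.Agent.Lib.BlockH.Basic.exists_isPModular Nat.prime_two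
  obtain ⟨χ, h1, hne⟩ := Cfsg.Agent.Lib.E8Aut.CharMain.exists_linear hM htt ht1 (hC t hord)
    hf3 hf1 hQ hCf hinv (S : Subgroup G) hS8 hconj
  exact no_linear hG χ h1 hne

/-- **The main theorem.** -/
theorem main [IsSimpleGroup G] (hG : ¬ IsMulCommutative G) (S : Sylow 2 G)
    (hS : IsElementaryAbelian 2 (S : Subgroup G)) (hS8 : Nat.card (S : Subgroup G) = 8)
    (hC : ∀ t : G, orderOf t = 2 → Group.IsSolvable (centralizer ({t} : Set G))) :
    (centralizer ((S : Subgroup G) : Set G)).relIndex (normalizer ((S : Subgroup G) : Set G)) = 7 := by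
  classical
  haveI : Fact (Nat.Prime 2) := ⟨Nat.prime_two⟩
  have hZ : center G = ⊥ := by
    rcases IsSimpleGroup.eq_bot_or_eq_top_of_normal (center G) inferInstance with h | h
    · exact h
    · exfalso
      apply hG
      refine ⟨⟨fun a b => ?_⟩⟩
      have ha : a ∈ center G := by rw [h]; trivial
      exact (Subgroup.mem_center_iff.mp ha b).symm
  have hcard2 : 2 ∣ Nat.card G := by
    have h1 : Nat.card (S : Subgroup G) ∣ Nat.card G := Subgroup.card_subgroup_dvd_card _
    rw [hS8] at h1
    exact dvd_trans (by norm_num) h1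
  have hcore : pPrimeCore 2 G = ⊥ := by
    rcases IsSimpleGroup.eq_bot_or_eq_top_of_normal (pPrimeCore 2 G) (Cfsg.pPrimeCore_normal 2 G) with h | h
    · exact h
    · exfalso
      have hodd : Odd (Nat.card (pPrimeCore 2 G)) := Cfsg.Agent.Lib.ZStar.Cor.odd_card_core
      rw [h, Subgroup.card_top] at hodd
      exact (Nat.not_even_iff_odd.mpr hodd) (even_iff_two_dvd.mpr hcard2)
  letI act := ptsAct (S : Subgroup G)
  letI : Finite (Pts (S : Subgroup G)) := inferInstance
  have hsmul : ∀ (n : normalizer ((S : Subgroup G) : Set G)) (s : Pts (S : Subgroup G)),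
      ((n • s : Pts (S : Subgroup G)) : G) = (n : G) * (s : G) * (n : G)⁻¹ := fun _ _ => rfl
  have hcardX : Nat.card (Pts (S : Subgroup G)) = 7 := by
    have h1 : ({s : G | s ∈ (S : Subgroup G) ∧ s ≠ 1}) = ((S : Subgroup G) : Set G) \ {1} := by
      ext x
      constructor
      · rintro ⟨h1, h2⟩
        exact ⟨h1, h2⟩
      · rintro ⟨h1, h2⟩
        exact ⟨h1, h2⟩
    have h2 : Nat.card (Pts (S : Subgroup G)) = ({s : G | s ∈ (S : Subgroup G) ∧ s ≠ 1}).ncard :=
      Nat.card_coe_set_eq _
    have h3 : (((S : Subgroup G) : Set G)).ncard = Nat.card (S : Subgroup G) :=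
      (Nat.card_coe_set_eq _).symm
    rw [h2, h1, Set.ncard_sdiff_singleton_of_mem (one_mem (S : Subgroup G)), h3, hS8]
  have hab : IsMulCommutative (S : Subgroup G) := hS.1
  have hSN : (S : Subgroup G) ≤ normalizer ((S : Subgroup G) : Set G) := Subgroup.le_normalizer
  have hSC : ∀ a ∈ (S : Subgroup G), a ∈ centralizer ((S : Subgroup G) : Set G) := by
    intro a ha
    rw [Subgroup.mem_centralizer_iff]
    intro h hh
    have := hab.is_comm.comm (⟨h, hh⟩ : (S : Subgroup G)) ⟨a, ha⟩
    simpa using congrArg Subtype.val this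
  -- orbits are odd
  have hodd : ∀ x : Pts (S : Subgroup G),
      Odd (MulAction.orbit (normalizer ((S : Subgroup G) : Set G)) x).ncard := by
    intro x
    rw [← MulAction.index_stabilizer]
    set St := MulAction.stabilizer (normalizer ((S : Subgroup G) : Set G)) x with hSt
    have h1 : St.index * Nat.card St = Nat.card (normalizer ((S : Subgroup G) : Set G)) :=
      Subgroup.index_mul_card St
    have h2 : (S : Subgroup G).subgroupOf (normalizer ((S : Subgroup G) : Set G)) ≤ St := by
      intro a ha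
      rw [Subgroup.mem_subgroupOf] at ha
      rw [hSt, MulAction.mem_stabilizer_iff]
      apply Subtype.ext
      rw [hsmul]
      have := (Subgroup.mem_centralizer_iff.mp (hSC _ ha)) x.1 x.2.1
      rw [← this]
      simp
    have h3 : Nat.card ((S : Subgroup G).subgroupOf (normalizer ((S : Subgroup G) : Set G))) = 8 := by
      rw [Nat.card_congr (Subgroup.subgroupOfEquivOfLe hSN).toEquiv, hS8]
    have h4 : 8 ∣ Nat.card St := by
      rw [← h3]; exact Subgroup.card_dvd_of_le h2
    have h5 : Nat.card (normalizer ((S : Subgroup G) : Set G)) ∣ Nat.card G :=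
      Subgroup.card_subgroup_dvd_card _
    have h6 : (S : Subgroup G).index * Nat.card (S : Subgroup G) = Nat.card G :=
      Subgroup.index_mul_card _
    rw [hS8] at h6
    have h7 : ¬ 2 ∣ (S : Subgroup G).index := S.not_dvd_index
    obtain ⟨a, ha⟩ := h4
    obtain ⟨b, hb⟩ := h5
    have h8 : St.index * a * b * 8 = (S : Subgroup G).index * 8 := by
      rw [h6, hb, ← h1, ha]; ring
    have h9 : St.index * a * b = (S : Subgroup G).index := Nat.eq_of_mul_eq_mul_right (by norm_num) h8
    rw [← Nat.not_even_iff_odd, even_iff_two_dvd]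
    intro h10
    apply h7
    rw [← h9]
    exact dvd_trans h10 (dvd_trans (dvd_mul_right _ _) (dvd_mul_right _ _))
  have hne : ∀ x : Pts (S : Subgroup G),
      (MulAction.orbit (normalizer ((S : Subgroup G) : Set G)) x).ncard ≠ 1 := by
    intro x hx
    rw [Set.ncard_eq_one] at hx
    obtain ⟨c, hc⟩ := hx
    have hcx : ∀ y ∈ MulAction.orbit (normalizer ((S : Subgroup G) : Set G)) x, y = c := by
      intro y hy
      rw [hc] at hy
      exact hy
    have hxc := hcx x (MulAction.mem_orbit_self x)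
    apply x.2.2
    refine Cfsg.Agent.Lib.ZStar.AbelianSylow.eq_one_of_fixed hZ hcore S hab x.2.1 ?_
    intro n hn
    have h := hcx ((⟨n, hn⟩ : normalizer ((S : Subgroup G) : Set G)) • x) (MulAction.mem_orbit _ _)
    rw [← hxc] at h
    have := congrArg Subtype.val h
    rwa [hsmul] at this
  have htrans := transitive_of_odd_orbits (K := normalizer ((S : Subgroup G) : Set G)) hcardX hodd hne
  -- a point
  have hnonempty : Nonempty (Pts (S : Subgroup G)) :=
    (Nat.card_pos_iff.mp (by rw [hcardX]; norm_num)).1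
  obtain ⟨t⟩ := hnonempty
  have hconj : ∀ s ∈ (S : Subgroup G), s ≠ 1 → IsConj s t.1 := by
    intro s hs hs1
    obtain ⟨n, hn⟩ := htrans t ⟨s, hs, hs1⟩
    have h1 := congrArg Subtype.val hn
    change ((n • t : Pts (S : Subgroup G)) : G) = s at h1
    rw [hsmul] at h1
    exact (isConj_iff.mpr ⟨(n : G), h1⟩).symm
  have hst : MulAction.stabilizer (normalizer ((S : Subgroup G) : Set G)) t =
      (centralizer ((S : Subgroup G) : Set G)).subgroupOf (normalizer ((S : Subgroup G) : Set G)) := by
    ext n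
    rw [Subgroup.mem_subgroupOf, MulAction.mem_stabilizer_iff]
    constructor
    · intro h
      have h1 := congrArg Subtype.val h
      rw [hsmul] at h1
      exact centralizes_of_fixes hG S hS hS8 hC t.2.1 t.2.2 hconj n.2 h1
    · intro h
      apply Subtype.ext
      rw [hsmul]
      have := (Subgroup.mem_centralizer_iff.mp h) t.1 t.2.1
      rw [← this]
      simp
  have horb : MulAction.orbit (normalizer ((S : Subgroup G) : Set G)) t = Set.univ :=
    Set.eq_univ_of_forall (htrans t)
  change ((centralizer ((S : Subgroup G) : Set G)).subgroupOf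
    (normalizer ((S : Subgroup G) : Set G))).index = 7
  rw [← hst, MulAction.index_stabilizer, horb, Set.ncard_univ, hcardX]

end Cfsg.Agent.Lib.E8Aut.Global
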